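import Groth.Agent.EtLim8.Morph
import Groth.Agent.EtMVLib.HpullApply
import Groth.Agent.EtAcycLib.Compose
import Groth.Agent.EtFound.FLCTorsor
import Groth.Agent.S8536

/-!
# Pullback maps on cohomology: composition, connecting maps, degree zero
-/

set_option autoImplicit false
set_option linter.style.haveILetI false
set_option linter.unusedSectionVars false
set_option linter.unusedVariables false
set_option backward.isDefEq.respectTransparency.types false

universe u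

open CategoryTheory CategoryTheory.Limits AlgebraicGeometry Opposite Abelian

namespace Groth.Agent.EtLim8

open EtFound

variable {X Y Z : Scheme.{u}}

theorem HF_map_apply {F G : EtCoh.Ab X} (η : F ⟶ G) (n : ℕ) (ξ : EtCoh.H X F n) :
    ((EtCoh.HF X n).map η).hom ξ = ξ.comp (Ext.mk₀ η) (add_zero n) := rfl

variable (u : Y ⟶ X) [PreservesFiniteLimits (EtCoh.pull u)]

theorem HpullThen_apply (F : EtCoh.Ab X) {M : EtCoh.Ab Y} (α : (EtCoh.pull u).obj F ⟶ M) (n : ℕ)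
    (ξ : EtCoh.H X F n) :
    EtLim.HpullThen u F α n ξ = (EtCore.Hpull u F n ξ).comp (Ext.mk₀ α) (add_zero n) :=
  HF_map_apply α n _

theorem HpullThen_comp_mk₀ {F : EtCoh.Ab X} {M M' : EtCoh.Ab Y} (α : (EtCoh.pull u).obj F ⟶ M) (β : M ⟶ M')
    (n : ℕ) (ξ : EtCoh.H X F n) :
    (EtLim.HpullThen u F α n ξ).comp (Ext.mk₀ β) (add_zero n) = EtLim.HpullThen u F (α ≫ β) n ξ := by
  rw [HpullThen_apply, HpullThen_apply, Ext.comp_assoc_of_third_deg_zero, Ext.mk₀_comp_mk₀]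

theorem HpullThen_mk₀ {F F' : EtCoh.Ab X} (η : F ⟶ F') {M : EtCoh.Ab Y} (α : (EtCoh.pull u).obj F' ⟶ M)
    (n : ℕ) (ξ : EtCoh.H X F n) :
    EtLim.HpullThen u F' α n (ξ.comp (Ext.mk₀ η) (add_zero n)) =
      EtLim.HpullThen u F ((EtCoh.pull u).map η ≫ α) n ξ := by
  rw [HpullThen_apply, HpullThen_apply, EtMVLib.Hpull_apply, EtMVLib.Hpull_apply, Ext.mapExactFunctor_comp,
    Ext.mapExactFunctor_mk₀, ← Ext.mk₀_comp_mk₀]
  simp only [Ext.comp_assoc_of_third_deg_zero]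

theorem HpullThen_extClass {S : ShortComplex (EtCoh.Ab X)} (hS : S.ShortExact)
    {S' : ShortComplex (EtCoh.Ab Y)} (hS' : S'.ShortExact) (τ : S.map (EtCoh.pull u) ⟶ S') (n : ℕ)
    (z : EtCoh.H X S.X₃ n) :
    EtLim.HpullThen u S.X₁ τ.τ₁ (n + 1) (z.comp hS.extClass rfl) =
      (EtLim.HpullThen u S.X₃ τ.τ₃ n z).comp hS'.extClass rfl := by
  rw [HpullThen_apply, HpullThen_apply, S8536.Hpull_comp_extClass]
  refine (Ext.comp_assoc_of_third_deg_zero _ _ _ _).trans (Eq.trans ?_ (Ext.comp_assoc_of_second_deg_zero _ _ _ _).symm)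
  exact congrArg (fun r => Ext.comp (EtCore.Hpull u S.X₃ n z) r rfl)
    (ShortComplex.ShortExact.extClass_naturality (hS.map_of_exact (EtCoh.pull u)) hS' τ)

/-- pullbacks compose -/
theorem HpullThen_HpullThen (v : Z ⟶ Y) (uv : Z ⟶ X) (hw : v ≫ u = uv) [PreservesFiniteLimits (EtCoh.pull v)]
    [PreservesFiniteLimits (EtCoh.pull uv)] {F : EtCoh.Ab X} {G : EtCoh.Ab Y} {K : EtCoh.Ab Z}
    (α : (EtCoh.pull u).obj F ⟶ G) (β : (EtCoh.pull v).obj G ⟶ K) (γ : (EtCoh.pull uv).obj F ⟶ K)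
    (h : Compat ((EtCoh.pullPushAdj u).homEquiv _ _ α) ((EtCoh.pullPushAdj v).homEquiv _ _ β)
      ((EtCoh.pullPushAdj uv).homEquiv _ _ γ)) (n : ℕ) (ξ : EtCoh.H X F n) :
    EtLim.HpullThen v G β n (EtLim.HpullThen u F α n ξ) = EtLim.HpullThen uv F γ n ξ := by
  have hγ : γ = (EtCore.pullCongr hw.symm ≪≫ EtCore.pullComp v u).hom.app F ≫ (EtCoh.pull v).map α ≫ β :=
    ((EtCoh.pullPushAdj uv).homEquiv _ _).injective
      (Compat.unique hw h (compat_of_pullComp hw.symm α β _ rfl))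
  rw [HpullThen_apply u, HpullThen_mk₀, HpullThen_apply, HpullThen_apply,
    ← EtAcycLib.Hpull_comp v u uv hw F n ξ, Ext.comp_assoc_of_third_deg_zero, Ext.mk₀_comp_mk₀, hγ]
  congr 2
  subst hw
  simp [EtCore.pullCongr]

/-- the structure map of the terminal object over a morphism -/
theorem top_w : u ≫ (EtCoh.top X).hom = (EtCoh.top Y).hom ≫ u :=
  (Category.comp_id u).trans (Category.id_comp u).symm

theorem equiv₀_HpullThen (F : EtCoh.Ab X) {M : EtCoh.Ab Y} (α : (EtCoh.pull u).obj F ⟶ M)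
    (ξ : EtCoh.H X F 0) :
    Sheaf.H.equiv₀ M (EtCore.topIsTerminal Y) (EtLim.HpullThen u F α 0 ξ) =
      res u ((EtCoh.pullPushAdj u).homEquiv _ _ α) (V := EtCoh.top X) (W := EtCoh.top Y) u (top_w u)
        (Sheaf.H.equiv₀ F (EtCore.topIsTerminal X) ξ) := by
  obtain ⟨ζ, rfl⟩ := (Ext.mk₀_bijective (EtCoh.const X ℤ) F).2 ξ
  have val : ∀ {W : Scheme.{u}} {A : EtCoh.Ab W} (η : EtCoh.const W ℤ ⟶ A),
      Sheaf.H.equiv₀ A (EtCore.topIsTerminal W) (Ext.mk₀ η) =
        (((EtCore.constAdj W).homEquiv _ _ η).hom ⟨1⟩) := by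
    intro W A η
    show AddCommGrpCat.uliftZMultiplesAddEquiv _
      ((constantSheafAdj W.smallEtaleTopology AddCommGrpCat.{u + 1} (EtCore.topIsTerminal W)).homAddEquiv _ _
        (Ext.addEquiv₀ (Ext.mk₀ η))) = _
    rw [show Ext.addEquiv₀ (Ext.mk₀ η) = η from Ext.addEquiv₀.apply_symm_apply η]
    rfl
  rw [HpullThen_apply, EtMVLib.Hpull_apply, Ext.mapExactFunctor_mk₀, Ext.mk₀_comp_mk₀, Ext.mk₀_comp_mk₀,
    val, val]
  have h := Adjunction.homEquiv_leftAdjointUniq_hom_app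
    (((EtCore.constAdj X).comp (EtCoh.pullPushAdj u)).ofNatIsoRight (EtCore.pushGsecIso u)) (EtCore.constAdj Y)
    (AddCommGrpCat.of (ULift.{u + 1} ℤ))
  have e : (EtCore.constAdj Y).homEquiv _ _ (((EtCore.pullConst u ℤ).inv ≫ (EtCoh.pull u).map ζ) ≫ α) =
      (EtCore.constAdj X).homEquiv _ _ (ζ ≫ (EtCoh.pullPushAdj u).homEquiv _ _ α) ≫
        (EtCore.pushGsecIso u).hom.app M := by
    have e1 : (((EtCore.constAdj X).comp (EtCoh.pullPushAdj u)).ofNatIsoRight
        (EtCore.pushGsecIso u)).homEquiv _ _ ((EtCoh.pull u).map ζ ≫ α) =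
        (EtCore.constAdj X).homEquiv _ _ (ζ ≫ (EtCoh.pullPushAdj u).homEquiv _ _ α) ≫
          (EtCore.pushGsecIso u).hom.app M := by
      rw [← Adjunction.homEquiv_naturality_left]
      generalize (EtCoh.pull u).map ζ ≫ α = θ
      simp only [Adjunction.homEquiv_unit, Adjunction.ofNatIsoRight_unit, Functor.map_comp, Category.assoc,
        NatTrans.comp_app, Functor.whiskerLeft_app, Adjunction.comp_unit_app]
      exact congrArg (_ ≫ ·) (congrArg (_ ≫ ·) ((EtCore.pushGsecIso u).hom.naturality θ).symm)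
    rw [← e1]
    have e2 : (EtCoh.pull u).map ζ ≫ α =
        (EtCore.pullConstIso u).hom.app (AddCommGrpCat.of (ULift.{u + 1} ℤ)) ≫
          (((EtCore.pullConst u ℤ).inv ≫ (EtCoh.pull u).map ζ) ≫ α) := by
      simp [EtCore.pullConst]
    conv_rhs => rw [e2, Adjunction.homEquiv_naturality_right]
    rw [EtCore.pullConstIso, h, Adjunction.homEquiv_unit]
  refine (congrArg (fun r : AddCommGrpCat.of (ULift.{u + 1} ℤ) ⟶ _ => (AddCommGrpCat.Hom.hom r) (⟨1⟩ : ULift.{u + 1} ℤ)) e).trans ?_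
  rw [Adjunction.homEquiv_naturality_right]
  have hb : (EtCore.bcTopIso u).inv = liftBc u (V := EtCoh.top X) (W := EtCoh.top Y) u (top_w u) :=
    (EtCore.bcTopIsTerminal u).hom_ext _ _
  rw [res_eq, ← hb]
  rfl

end Groth.Agent.EtLim8
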