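import Groth.Agent.EtLim8.Coinduced
import Groth.Agent.EtLim8.HMaps

/-!
# Cohomology of a limit of schemes is the colimit of the cohomologies
-/

set_option autoImplicit false
set_option linter.style.haveILetI false
set_option linter.unusedSectionVars false
set_option linter.unusedVariables false
set_option backward.isDefEq.respectTransparency.types false

universe u

open CategoryTheory CategoryTheory.Limits AlgebraicGeometry Opposite Abelian

namespace Groth.Agent.EtLim8

open EtFound

variable {ι : Type u} [Preorder ι] [IsDirected ι (· ≤ ·)] [Nonempty ι] {Xs : ιᵒᵖ ⥤ Scheme.{u}} {c : Cone Xs}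

/-- inverse images are exact -/
theorem preservesFiniteLimits_pull {X Y : Scheme.{u}} (f : X ⟶ Y) : PreservesFiniteLimits (EtCoh.pull f) :=
  pull_preservesFiniteLimits f

attribute [local instance] preservesFiniteLimits_pull

variable (S : Sys Xs) (hU : S.IsUnital)

/-- transition maps on cohomology -/
noncomputable def Sys.trH {i j : ι} (h : i ≤ j) (p : ℕ) :
    EtCoh.H (Xs.obj (op i)) (S.F i) p →+ EtCoh.H (Xs.obj (op j)) (S.F j) p :=
  EtLim.HpullThen (tr Xs h) (S.F i) (((EtCoh.pullPushAdj (tr Xs h)).homEquiv _ _).symm (S.l h)) p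

variable (c) in
/-- the map to the cohomology of the limit -/
noncomputable def Sys.colimH (i : ι) (p : ℕ) :
    EtCoh.H (Xs.obj (op i)) (S.F i) p →+ EtCoh.H c.pt (colimit (S.diag c hU).G) p :=
  EtLim.HpullThen (pr c i) (S.F i) (colimit.ι (S.diag c hU).G i) p

theorem Sys.trH_trH {i j k : ι} (hij : i ≤ j) (hjk : j ≤ k) (p : ℕ) (ξ : EtCoh.H (Xs.obj (op i)) (S.F i) p) :
    S.trH hjk p (S.trH hij p ξ) = S.trH (hij.trans hjk) p ξ :=
  HpullThen_HpullThen (tr Xs hij) (tr Xs hjk) (tr Xs (hij.trans hjk)) (tr_comp Xs hij hjk) _ _ _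
    (by simpa only [Equiv.apply_symm_apply] using S.comp hij hjk) p ξ

theorem Sys.target_g (i : ι) :
    (S.diag c hU).target.g i = (EtCoh.pullPushAdj (pr c i)).homEquiv _ _ (colimit.ι (S.diag c hU).G i) := by
  show (EtCoh.pullPushAdj (pr c i)).homEquiv _ _ (𝟙 _ ≫ colimit.ι (S.diag c hU).G i) = _
  exact congrArg (fun r => (EtCoh.pullPushAdj (pr c i)).homEquiv _ _ r) (Category.id_comp _)

theorem Sys.colimH_trH {i j : ι} (h : i ≤ j) (p : ℕ) (ξ : EtCoh.H (Xs.obj (op i)) (S.F i) p) :
    S.colimH c hU j p (S.trH h p ξ) = S.colimH c hU i p ξ := by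
  refine HpullThen_HpullThen (tr Xs h) (pr c j) (pr c i) (pr_tr c h) _ _ _ ?_ p ξ
  have := (S.diag c hU).target.comp h
  rw [S.target_g hU, S.target_g hU] at this
  rw [Equiv.apply_symm_apply]
  exact this

variable {S} {S' : Sys Xs} (η : SysHom S S') (hU' : S'.IsUnital)

theorem SysHom.trH_mk₀ {i j : ι} (h : i ≤ j) (p : ℕ) (ξ : EtCoh.H (Xs.obj (op i)) (S.F i) p) :
    S'.trH h p (ξ.comp (Ext.mk₀ (η.app i)) (add_zero p)) =
      (S.trH h p ξ).comp (Ext.mk₀ (η.app j)) (add_zero p) := by
  refine (HpullThen_mk₀ (tr Xs h) (η.app i) _ p ξ).trans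
    (Eq.trans ?_ (HpullThen_comp_mk₀ (tr Xs h) _ (η.app j) p ξ).symm)
  congr 1
  rw [← Adjunction.homEquiv_naturality_left_symm, η.comm h, Adjunction.homEquiv_naturality_right_symm]

theorem SysHom.colimH_mk₀ (i : ι) (p : ℕ) (ξ : EtCoh.H (Xs.obj (op i)) (S.F i) p) :
    S'.colimH c hU' i p (ξ.comp (Ext.mk₀ (η.app i)) (add_zero p)) =
      (S.colimH c hU i p ξ).comp (Ext.mk₀ (colimMap (η.diagMap (c := c) hU hU'))) (add_zero p) := by
  refine (HpullThen_mk₀ (pr c i) (η.app i) _ p ξ).trans
    (Eq.trans ?_ (HpullThen_comp_mk₀ (pr c i) _ _ p ξ).symm)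
  exact congrArg (fun r => EtLim.HpullThen (pr c i) (S.F i) r p ξ)
    (ι_colimMap (η.diagMap (c := c) hU hU') i).symm

variable [hA : ∀ {a b : ιᵒᵖ} (h : a ⟶ b), IsAffineHom (Xs.map h)] (hc : IsLimit c)
  (hqc : ∀ a, CompactSpace ↥(Xs.obj a)) (hqs : ∀ a, QuasiSeparatedSpace ↥(Xs.obj a))

variable (S) in
/-- cohomology of the limit is the colimit -/
structure Sys.Comm (p : ℕ) : Prop where
  surj : ∀ ξ : EtCoh.H c.pt (colimit (S.diag c hU).G) p,
    ∃ (j : ι) (ξj : EtCoh.H (Xs.obj (op j)) (S.F j) p), S.colimH c hU j p ξj = ξ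
  inj : ∀ (j : ι) (ξj : EtCoh.H (Xs.obj (op j)) (S.F j) p), S.colimH c hU j p ξj = 0 →
    ∃ (k : ι) (h : j ≤ k), S.trH h p ξj = 0

include hc hqc hqs in
set_option maxHeartbeats 1600000 in
theorem Sys.comm_zero (S : Sys Xs) (hU : S.IsUnital) : S.Comm (c := c) hU 0 := by
  have hT := (S.diag c hU).isColim
  have hV : ∀ j, IsQcqsObj (EtCoh.top (Xs.obj (op j))) := fun j => ⟨hqc (op j), hqs (op j)⟩
  have hev : ∀ (j : ι) (ξ : EtCoh.H (Xs.obj (op j)) (S.F j) 0),
      Sheaf.H.equiv₀ _ (EtCore.topIsTerminal c.pt) (S.colimH c hU j 0 ξ) =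
        res (pr c j) ((S.diag c hU).target.g j) (V := EtCoh.top _) (W := EtCoh.top c.pt) (pr c j) (top_w _)
          (Sheaf.H.equiv₀ (S.F j) (EtCore.topIsTerminal _) ξ) := by
    intro j ξ
    rw [S.target_g hU]
    exact equiv₀_HpullThen (pr c j) (S.F j) _ ξ
  refine ⟨fun ξ => ?_, fun j ξ hξ => ?_⟩
  · obtain ⟨i⟩ := ‹Nonempty ι›
    obtain ⟨j, hij, s, hs⟩ := exists_res_eq hT hc (EtCoh.top (Xs.obj (op i))) (hV i)
      ((colimit (S.diag c hU).G).obj.map
        ((EtCore.topIsTerminal c.pt).from ((EtCoh.bc (pr c i)).obj (EtCoh.top (Xs.obj (op i))))).op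
        (Sheaf.H.equiv₀ _ (EtCore.topIsTerminal c.pt) ξ))
    let n := (EtCore.bcTopIsTerminal (tr Xs hij)).from (EtCoh.top (Xs.obj (op j)))
    refine ⟨j, (Sheaf.H.equiv₀ (S.F j) (EtCore.topIsTerminal _)).symm ((S.F j).obj.map n.op s),
      (Sheaf.H.equiv₀ _ (EtCore.topIsTerminal c.pt)).injective ?_⟩
    rw [hev, AddEquiv.apply_symm_apply]
    have we : (pr c j ≫ n.left) ≫ ((EtCoh.bc (tr Xs hij)).obj (EtCoh.top (Xs.obj (op i)))).hom =
        (EtCoh.top c.pt).hom ≫ pr c j := by
      rw [Category.assoc]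
      exact (congrArg (pr c j ≫ ·) (MorphismProperty.Over.w n)).trans (top_w _)
    rw [res_map_left _ _ _ n _ rfl we]
    let m := (EtCore.bcTopIsTerminal (pr c i)).from (EtCoh.top c.pt)
    have hm : m.left ≫ bcMap (tr Xs hij) (pr c j) (pr c i) (pr_tr c hij) (EtCoh.top _) = pr c j ≫ n.left := by
      refine bc_hom_ext ?_ ?_
      · rw [Category.assoc, bcMap_fst]
        have h1 : m.left ≫ bcFst (pr c i) (EtCoh.top (Xs.obj (op i))) = pr c i := by
          have := bcFst_w (pr c i) (EtCoh.top (Xs.obj (op i)))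
          refine ((Category.comp_id _).symm.trans (Category.assoc _ _ _)).trans ?_
          refine (congrArg (m.left ≫ ·) this).trans ?_
          refine (Category.assoc _ _ _).symm.trans ?_
          refine (congrArg (· ≫ pr c i) (MorphismProperty.Over.w m)).trans ?_
          exact Category.id_comp _
        have h2 : n.left ≫ bcFst (tr Xs hij) (EtCoh.top (Xs.obj (op i))) = tr Xs hij := by
          have := bcFst_w (tr Xs hij) (EtCoh.top (Xs.obj (op i)))
          refine ((Category.comp_id _).symm.trans (Category.assoc _ _ _)).trans ?_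
          refine (congrArg (n.left ≫ ·) this).trans ?_
          refine (Category.assoc _ _ _).symm.trans ?_
          refine (congrArg (· ≫ tr Xs hij) (MorphismProperty.Over.w n)).trans ?_
          exact Category.id_comp _
        exact h1.trans ((Category.assoc _ _ _).trans ((congrArg (pr c j ≫ ·) h2).trans (pr_tr c hij))).symm
      · rw [Category.assoc, bcMap_w]
        refine (Category.assoc _ _ _).symm.trans ?_
        exact (congrArg (· ≫ pr c j) (MorphismProperty.Over.w m)).trans we.symm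
    refine (res_map_right _ _ (bcMap_w (pr_tr c hij) _) m _ hm we s).symm.trans
      ((congrArg _ hs).trans ?_)
    refine (Functor.map_comp_apply _ _ _ _).symm.trans ?_
    rw [← op_comp, (EtCore.topIsTerminal c.pt).hom_ext (m ≫ _) (𝟙 _), op_id, CategoryTheory.Functor.map_id]
    rfl
  · have h0 : res (pr c j) ((S.diag c hU).target.g j) (V := EtCoh.top _) (W := EtCoh.top c.pt) (pr c j)
        (top_w _) (Sheaf.H.equiv₀ (S.F j) (EtCore.topIsTerminal _) ξ) = 0 :=
      (hev j ξ).symm.trans ((congrArg _ hξ).trans (map_zero _))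
    let μ := (EtCore.topIsTerminal c.pt).from ((EtCoh.bc (pr c j)).obj (EtCoh.top (Xs.obj (op j))))
    obtain ⟨k, hjk, hk⟩ := exists_eq_zero hT hc (EtCoh.top (Xs.obj (op j))) (hV j)
      (Sheaf.H.equiv₀ (S.F j) (EtCore.topIsTerminal _) ξ) (by
        have hμ : μ.left ≫ pr c j = bcFst (pr c j) (EtCoh.top (Xs.obj (op j))) := by
          refine Eq.trans ?_ ((bcFst_w (pr c j) (EtCoh.top _)).symm.trans (Category.comp_id _))
          exact congrArg (· ≫ pr c j) ((Category.comp_id _).symm.trans (MorphismProperty.Over.w μ))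
        refine (res_map_right _ _ (top_w _) μ _ hμ (bcFst_w _ _) _).symm.trans ?_
        exact (congrArg _ h0).trans (map_zero _))
    refine ⟨k, hjk, (Sheaf.H.equiv₀ (S.F k) (EtCore.topIsTerminal _)).injective ?_⟩
    rw [map_zero, Sys.trH, equiv₀_HpullThen, Equiv.apply_symm_apply,
      ← res_map_right (S.l hjk) _ (bcFst_w _ _) (liftBc (tr Xs hjk) (V := EtCoh.top _) (W := EtCoh.top _)
        (tr Xs hjk) (top_w _)) _ (liftBc_fst _ _ _), hk, map_zero]

/-- stage short exact sequence of a monomorphism of systems -/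
noncomputable abbrev SysHom.stageSES (η : SysHom S S') (i : ι) : ShortComplex (EtCoh.Ab (Xs.obj (op i))) :=
  ShortComplex.mk (η.app i) (η.cokerπ.app i) (cokernel.condition _)

theorem SysHom.stageSES_shortExact (η : SysHom S S') (hm : ∀ i, Mono (η.app i)) (i : ι) :
    (η.stageSES i).ShortExact :=
  haveI := hm i
  haveI : Epi (η.cokerπ.app i) := inferInstanceAs (Epi (cokernel.π (η.app i)))
  { exact := ShortComplex.exact_of_g_is_cokernel _ (cokernelIsCokernel _) }

/-- the sequence of diagrams on the limit -/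
noncomputable abbrev SysHom.diagSES (η : SysHom S S') : ShortComplex (ι ⥤ EtCoh.Ab c.pt) :=
  ShortComplex.mk (η.diagMap (c := c) hU hU') (η.cokerπ.diagMap hU' (η.coker_isUnital hU'))
    (NatTrans.ext (funext fun i => by
      change (EtCoh.pull (pr c i)).map _ ≫ (EtCoh.pull (pr c i)).map _ = 0
      exact ((Functor.map_comp _ _ _).symm.trans (congrArg _ (cokernel.condition _))).trans (Functor.map_zero _ _ _)))

theorem SysHom.diagSES_shortExact (η : SysHom S S') (hm : ∀ i, Mono (η.app i)) :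
    (η.diagSES (c := c) hU hU').ShortExact := by
  have h : ∀ i, ((η.stageSES i).map (EtCoh.pull (pr c i))).ShortExact := fun i =>
    (η.stageSES_shortExact hm i).map_of_exact _
  haveI : ∀ i, Mono ((η.diagSES (c := c) hU hU').f.app i) := fun i => (h i).mono_f
  haveI : ∀ i, Epi ((η.diagSES (c := c) hU hU').g.app i) := fun i => (h i).epi_g
  haveI := NatTrans.mono_of_mono_app (η.diagSES (c := c) hU hU').f
  haveI := NatTrans.epi_of_epi_app (η.diagSES (c := c) hU hU').g
  refine { exact := ?_ }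
  rw [ShortComplex.exact_iff_isZero_homology]
  exact Functor.isZero _ fun i => ((ShortComplex.exact_iff_isZero_homology _).1 (h i).exact).of_iso
    ((η.diagSES (c := c) hU hU').mapHomologyIso ((evaluation ι (EtCoh.Ab c.pt)).obj i)).symm

instance hasExactColimits_index (X : Scheme.{u}) : HasExactColimitsOfShape ι (EtCoh.Ab X) :=
  haveI : AB5OfSize.{u, u} (EtCoh.Ab X) := AB5OfSize_of_univLE.{u, u, u + 1, u + 1} (EtCoh.Ab X)
  inferInstance

theorem SysHom.colimSES_shortExact (η : SysHom S S') (hm : ∀ i, Mono (η.app i)) :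
    ((η.diagSES (c := c) hU hU').map colim).ShortExact :=
  (η.diagSES_shortExact hU hU' hm).map_of_exact _

/-- stage to limit -/
noncomputable def SysHom.toColimSES (η : SysHom S S') (i : ι) :
    (η.stageSES i).map (EtCoh.pull (pr c i)) ⟶ (η.diagSES (c := c) hU hU').map colim where
  τ₁ := colimit.ι (S.diag c hU).G i
  τ₂ := colimit.ι (S'.diag c hU').G i
  τ₃ := colimit.ι (η.coker.diag c (η.coker_isUnital hU')).G i
  comm₁₂ := colimit.ι_map (η.diagMap (c := c) hU hU') i
  comm₂₃ := colimit.ι_map (η.cokerπ.diagMap (c := c) hU' (η.coker_isUnital hU')) i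

/-- stage to stage -/
noncomputable def SysHom.toStageSES (η : SysHom S S') {i j : ι} (h : i ≤ j) :
    (η.stageSES i).map (EtCoh.pull (tr Xs h)) ⟶ η.stageSES j where
  τ₁ := ((EtCoh.pullPushAdj (tr Xs h)).homEquiv _ _).symm (S.l h)
  τ₂ := ((EtCoh.pullPushAdj (tr Xs h)).homEquiv _ _).symm (S'.l h)
  τ₃ := ((EtCoh.pullPushAdj (tr Xs h)).homEquiv _ _).symm (η.coker.l h)
  comm₁₂ := by
    change _ ≫ η.app j = (EtCoh.pull (tr Xs h)).map (η.app i) ≫ _
    rw [← Adjunction.homEquiv_naturality_left_symm, η.comm h, Adjunction.homEquiv_naturality_right_symm]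
  comm₂₃ := by
    change _ ≫ η.cokerπ.app j = (EtCoh.pull (tr Xs h)).map (η.cokerπ.app i) ≫ _
    rw [← Adjunction.homEquiv_naturality_left_symm, η.cokerπ.comm h, Adjunction.homEquiv_naturality_right_symm]

include hc hqc hqs in
set_option maxHeartbeats 1600000 in
theorem subsingleton_H_coind (S : Sys Xs) (q : ℕ) :
    Subsingleton (EtCoh.H c.pt (colimit ((coind S).diag c (coind_isUnital S)).G) (q + 1)) :=
  have h : IsLimAcyclic c ((coind S).diag c (coind_isUnital S)).target.G :=
    isLimAcyclic_of_injective_sys (T := ((coind S).diag c (coind_isUnital S)).target) (coind_isUnital S) hc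
      ((coind S).diag c (coind_isUnital S)).isColim (fun i => injective_coind S i)
  subsingleton_H_of_isLimAcyclic hc hqc hqs q _ h

include hc hqc hqs in
set_option maxHeartbeats 800000 in
/-- the main theorem -/
theorem Sys.comm (p : ℕ) : ∀ (S : Sys Xs) (hU : S.IsUnital), S.Comm (c := c) hU p := by
  induction p with
  | zero => exact fun S hU => S.comm_zero hc hqc hqs hU
  | succ p ih =>
    intro S hU
    let η := toCoind S
    have hm := mono_toCoind S hU
    have hJ := coind_isUnital S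
    have hQ := η.coker_isUnital hJ
    have hS := η.colimSES_shortExact (c := c) hU hJ hm
    have hSi := η.stageSES_shortExact hm
    have hδ : ∀ (i : ι) (z : EtCoh.H (Xs.obj (op i)) (η.coker.F i) p),
        S.colimH c hU i (p + 1) (z.comp (hSi i).extClass rfl) =
          (η.coker.colimH c hQ i p z).comp hS.extClass rfl := fun i z =>
      HpullThen_extClass (pr c i) (hSi i) hS (η.toColimSES hU hJ i) p z
    have hδ' : ∀ {i j : ι} (h : i ≤ j) (z : EtCoh.H (Xs.obj (op i)) (η.coker.F i) p),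
        S.trH h (p + 1) (z.comp (hSi i).extClass rfl) = (η.coker.trH h p z).comp (hSi j).extClass rfl :=
      fun {i j} h z => HpullThen_extClass (tr Xs h) (hSi i) (hSi j) (η.toStageSES h) p z
    refine ⟨fun ξ => ?_, fun j ξj hξ => ?_⟩
    · haveI := subsingleton_H_coind (c := c) hc hqc hqs S p
      obtain ⟨z, hz⟩ := Ext.covariant_sequence_exact₁ _ hS ξ
        (Subsingleton.elim (α := EtCoh.H c.pt (colimit ((coind S).diag c hJ).G) (p + 1)) _ _) rfl
      obtain ⟨i, zi, hzi⟩ := (ih η.coker hQ).surj z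
      exact ⟨i, zi.comp (hSi i).extClass rfl, (hδ i zi).trans ((congrArg (fun r => Ext.comp r _ rfl) hzi).trans hz)⟩
    · haveI := injective_coind S j
      obtain ⟨zj, rfl⟩ := Ext.covariant_sequence_exact₁ _ (hSi j) ξj
        (haveI : Injective (η.stageSES j).X₂ := injective_coind S j; Ext.eq_zero_of_injective _) rfl
      rw [hδ] at hξ
      obtain ⟨y, hy⟩ := Ext.covariant_sequence_exact₃ _ hS (η.coker.colimH c hQ j p zj) rfl hξ
      obtain ⟨i, yi, hyi⟩ := (ih (coind S) hJ).surj y
      obtain ⟨k, hjk, hik⟩ := exists_ge_ge j i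
      let w := η.coker.trH hjk p zj -
        ((coind S).trH hik p yi).comp (Ext.mk₀ (η.cokerπ.app k)) (add_zero p)
      have hw : η.coker.colimH c hQ k p w = 0 := by
        have e1 : η.coker.colimH c hQ k p (((coind S).trH hik p yi).comp (Ext.mk₀ (η.cokerπ.app k)) (add_zero p)) =
            η.coker.colimH c hQ j p zj := by
          refine (η.cokerπ.colimH_mk₀ (c := c) hJ hQ k p _).trans ?_
          rw [(coind S).colimH_trH hJ hik, hyi]
          exact hy
        rw [map_sub, η.coker.colimH_trH hQ hjk, e1, sub_self]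
      obtain ⟨l, hkl, hl⟩ := (ih η.coker hQ).inj k w hw
      refine ⟨l, hjk.trans hkl, ?_⟩
      rw [map_sub, sub_eq_zero, η.coker.trH_trH, η.cokerπ.trH_mk₀] at hl
      rw [hδ', hl, Ext.comp_assoc_of_second_deg_zero]
      exact (congrArg (fun r => Ext.comp _ r rfl) (hSi l).comp_extClass).trans (Ext.comp_zero _ _ _ _ _)

end Groth.Agent.EtLim8
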