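import Groth.Agent.EtFound.Stalk
import Groth.Prelude.Def_EtLim

/-!
# Sections along morphisms of schemes and vanishing loci

A morphism `l : F ⟶ t_* G` for `t : Y ⟶ X` is used through the maps `res t l a : F(V) → G(W)`, one for each
morphism of schemes `a : W ⟶ V` lying over `t`.
-/

set_option autoImplicit false
set_option linter.style.haveILetI false
set_option backward.isDefEq.respectTransparency.types false

universe u

open CategoryTheory CategoryTheory.Limits AlgebraicGeometry Opposite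

namespace Groth.Agent.EtLim8

open EtFound

theorem exists_point_of_isPullback {P A B C : Scheme.{u}} {b : P ⟶ A} {q : P ⟶ B} {g : A ⟶ C} {a : B ⟶ C}
    (h : IsPullback b q g a) (z : A) (x : B) (e : g.base z = a.base x) :
    ∃ p : P, b.base p = z ∧ q.base p = x := by
  obtain ⟨p, h1, h2⟩ := Scheme.Pullback.exists_preimage_pullback (f := g) (g := a) z x e
  refine ⟨h.isoPullback.inv.base p, ?_, ?_⟩
  · rw [← Scheme.Hom.comp_apply, IsPullback.isoPullback_inv_fst]
    exact h1
  · rw [← Scheme.Hom.comp_apply, IsPullback.isoPullback_inv_snd]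
    exact h2

/-- the sheaf condition, as separatedness on points -/
theorem sect_ext {X : Scheme.{u}} (F : EtCoh.Ab X) {U : X.Etale} (s t : F.obj.obj (op U))
    (h : ∀ x : U.left, ∃ (V : X.Etale) (g : V ⟶ U) (v : V.left), g.left.base v = x ∧
      F.obj.map g.op s = F.obj.map g.op t) : s = t := by
  have hS : Presheaf.equalizerSieve (X := op U) s t ∈ X.smallEtaleTopology U := (mem_topology_iff _).2 fun x => by
    obtain ⟨V, g, v, hv, hg⟩ := h x
    exact ⟨V, g, v, hg, hv⟩
  exact (((isSheaf_iff_isSheaf_of_type _ _).1 ((Presheaf.isSheaf_iff_isSheaf_forget X.smallEtaleTopology F.obj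
    (forget AddCommGrpCat.{u + 1})).1 F.property)).isSeparated _ hS).ext fun V g hg => hg

section nullLocus

variable {X : Scheme.{u}}

/-- the points near which a section vanishes -/
def nullLocus (F : EtCoh.Ab X) (V : X.Etale) (s : F.obj.obj (op V)) : Set V.left :=
  {x | ∃ (U : X.Etale) (g : U ⟶ V) (z : U.left), g.left.base z = x ∧ F.obj.map g.op s = 0}

theorem isOpen_nullLocus (F : EtCoh.Ab X) (V : X.Etale) (s : F.obj.obj (op V)) : IsOpen (nullLocus F V s) := by
  refine isOpen_iff_forall_mem_open.2 fun x ⟨U, g, z, hz, hg⟩ => ?_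
  haveI := etale_left g
  exact ⟨Set.range g.left.base, fun y ⟨w, hw⟩ => ⟨U, g, w, hw, hg⟩, g.left.isOpenMap.isOpen_range, z, hz⟩

theorem eq_zero_of_nullLocus {F : EtCoh.Ab X} {V : X.Etale} {s : F.obj.obj (op V)}
    (h : ∀ x, x ∈ nullLocus F V s) : s = 0 := by
  refine sect_ext F s 0 fun x => ?_
  obtain ⟨U, g, z, hz, hg⟩ := h x
  exact ⟨U, g, z, hz, hg.trans (map_zero _).symm⟩

theorem nullLocus_eq_univ (F : EtCoh.Ab X) (V : X.Etale) : nullLocus F V 0 = Set.univ :=
  Set.eq_univ_of_forall fun x => ⟨V, 𝟙 V, x, rfl, map_zero _⟩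

end nullLocus

section res

variable {X Y Z : Scheme.{u}}

/-- the projection of a base change -/
noncomputable abbrev bcFst (t : Y ⟶ X) (V : X.Etale) : ((EtCoh.bc t).obj V).left ⟶ V.left :=
  pullback.fst V.hom t

theorem bcFst_w (t : Y ⟶ X) (V : X.Etale) : bcFst t V ≫ V.hom = ((EtCoh.bc t).obj V).hom ≫ t :=
  pullback.condition

theorem isPullback_bcFst (t : Y ⟶ X) (V : X.Etale) :
    IsPullback (bcFst t V) ((EtCoh.bc t).obj V).hom V.hom t :=
  IsPullback.of_hasPullback _ _

theorem hom_bc_ext {t : Y ⟶ X} {V : X.Etale} {W : Y.Etale} {p q : W ⟶ (EtCoh.bc t).obj V}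
    (h : p.left ≫ bcFst t V = q.left ≫ bcFst t V) : p = q :=
  MorphismProperty.Over.Hom.ext
    (pullback.hom_ext h ((MorphismProperty.Over.w p).trans (MorphismProperty.Over.w q).symm))

/-- a morphism over `t` as a morphism to the base change -/
noncomputable def liftBc (t : Y ⟶ X) {V : X.Etale} {W : Y.Etale} (a : W.left ⟶ V.left)
    (w : a ≫ V.hom = W.hom ≫ t) : W ⟶ (EtCoh.bc t).obj V :=
  MorphismProperty.Over.homMk (pullback.lift a W.hom w) (pullback.lift_snd _ _ _) trivial

@[reassoc (attr := simp)]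
theorem liftBc_fst (t : Y ⟶ X) {V : X.Etale} {W : Y.Etale} (a : W.left ⟶ V.left)
    (w : a ≫ V.hom = W.hom ≫ t) : (liftBc t a w).left ≫ bcFst t V = a :=
  pullback.lift_fst _ _ _

variable (t : Y ⟶ X) {F : EtCoh.Ab X} {G : EtCoh.Ab Y}

/-- transport of sections along a morphism over `t` -/
noncomputable def res (l : F ⟶ (EtCoh.push t).obj G) {V : X.Etale} {W : Y.Etale} (a : W.left ⟶ V.left)
    (w : a ≫ V.hom = W.hom ≫ t) : F.obj.obj (op V) →+ G.obj.obj (op W) :=
  (G.obj.map (liftBc t a w).op).hom.comp (l.hom.app (op V)).hom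

variable {t}

theorem res_congr (l : F ⟶ (EtCoh.push t).obj G) {V : X.Etale} {W : Y.Etale} {a a' : W.left ⟶ V.left}
    (h : a = a') (w : a ≫ V.hom = W.hom ≫ t) (w' : a' ≫ V.hom = W.hom ≫ t) (s : F.obj.obj (op V)) :
    res t l a w s = res t l a' w' s := by
  subst h
  rfl

theorem res_bcFst (l : F ⟶ (EtCoh.push t).obj G) (V : X.Etale) (s : F.obj.obj (op V)) :
    res t l (bcFst t V) (bcFst_w t V) s = (l.hom.app (op V)).hom s := by
  change G.obj.map (liftBc t (bcFst t V) (bcFst_w t V)).op ((l.hom.app (op V)).hom s) = _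
  rw [hom_bc_ext (q := 𝟙 _) ((liftBc_fst t _ _).trans (Category.id_comp _).symm), op_id,
    CategoryTheory.Functor.map_id]
  rfl

theorem res_map_right (l : F ⟶ (EtCoh.push t).obj G) {V : X.Etale} {W W' : Y.Etale} (a : W.left ⟶ V.left)
    (w : a ≫ V.hom = W.hom ≫ t) (g : W' ⟶ W) (a' : W'.left ⟶ V.left) (h : g.left ≫ a = a')
    (w' : a' ≫ V.hom = W'.hom ≫ t) (s : F.obj.obj (op V)) :
    G.obj.map g.op (res t l a w s) = res t l a' w' s := by
  change G.obj.map g.op (G.obj.map (liftBc t a w).op _) = G.obj.map (liftBc t a' w').op _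
  rw [← Functor.map_comp_apply, ← op_comp]
  refine congrArg (fun r => (G.obj.map (Quiver.Hom.op r)).hom _) (hom_bc_ext ?_)
  rw [liftBc_fst, ← h]
  exact (Category.assoc _ _ _).trans (congrArg (g.left ≫ ·) (liftBc_fst t a w))

theorem res_map_left (l : F ⟶ (EtCoh.push t).obj G) {V V' : X.Etale} {W : Y.Etale} (a : W.left ⟶ V.left)
    (w : a ≫ V.hom = W.hom ≫ t) (g : V ⟶ V') (a' : W.left ⟶ V'.left) (h : a ≫ g.left = a')
    (w' : a' ≫ V'.hom = W.hom ≫ t) (s : F.obj.obj (op V')) :
    res t l a w (F.obj.map g.op s) = res t l a' w' s := by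
  change G.obj.map (liftBc t a w).op ((l.hom.app (op V)).hom (F.obj.map g.op s)) = _
  rw [NatTrans.naturality_apply]
  change G.obj.map (liftBc t a w).op (G.obj.map ((EtCoh.bc t).map g).op _) = G.obj.map (liftBc t a' w').op _
  rw [← Functor.map_comp_apply, ← op_comp]
  refine congrArg (fun r => (G.obj.map (Quiver.Hom.op r)).hom _) (hom_bc_ext ?_)
  rw [liftBc_fst, ← h]
  refine (Category.assoc _ _ _).trans ?_
  refine (congrArg ((liftBc t a w).left ≫ ·) (EtCoh.isPullback_bc_map t g).w).trans ?_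
  exact (Category.assoc _ _ _).symm.trans (congrArg (· ≫ g.left) (liftBc_fst t a w))

/-- every `res` is determined by the canonical one -/
theorem res_eq (l : F ⟶ (EtCoh.push t).obj G) {V : X.Etale} {W : Y.Etale} (a : W.left ⟶ V.left)
    (w : a ≫ V.hom = W.hom ≫ t) (s : F.obj.obj (op V)) :
    res t l a w s = G.obj.map (liftBc t a w).op ((l.hom.app (op V)).hom s) := rfl

theorem res_comp_push_map (l : F ⟶ (EtCoh.push t).obj G) {G' : EtCoh.Ab Y} (η : G ⟶ G') {V : X.Etale}
    {W : Y.Etale} (a : W.left ⟶ V.left) (w : a ≫ V.hom = W.hom ≫ t) (s : F.obj.obj (op V)) :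
    res t (l ≫ (EtCoh.push t).map η) a w s = (η.hom.app (op W)).hom (res t l a w s) :=
  (NatTrans.naturality_apply η.hom (liftBc t a w).op ((l.hom.app (op V)).hom s)).symm

theorem res_comp_left {F' : EtCoh.Ab X} (η : F' ⟶ F) (l : F ⟶ (EtCoh.push t).obj G) {V : X.Etale}
    {W : Y.Etale} (a : W.left ⟶ V.left) (w : a ≫ V.hom = W.hom ≫ t) (s : F'.obj.obj (op V)) :
    res t (η ≫ l) a w s = res t l a w ((η.hom.app (op V)).hom s) := rfl

theorem hom_ext_res {l l' : F ⟶ (EtCoh.push t).obj G}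
    (h : ∀ (V : X.Etale) (s : F.obj.obj (op V)),
      res t l (bcFst t V) (bcFst_w t V) s = res t l' (bcFst t V) (bcFst_w t V) s) : l = l' :=
  Sheaf.hom_ext (NatTrans.ext (funext fun V => AddCommGrpCat.hom_ext (AddMonoidHom.ext fun s =>
    (res_bcFst l V.unop s).symm.trans ((h V.unop s).trans (res_bcFst l' V.unop s)))))

/-- fibre products of an étale morphism and a morphism over `t` -/
theorem exists_pullback_over (t : Y ⟶ X) {U V : X.Etale} {W : Y.Etale} (g : U ⟶ V) (a : W.left ⟶ V.left)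
    (w : a ≫ V.hom = W.hom ≫ t) :
    ∃ (Q : Y.Etale) (q : Q ⟶ W) (b : Q.left ⟶ U.left), b ≫ U.hom = Q.hom ≫ t ∧
      IsPullback b q.left g.left a := by
  haveI := etale_left g
  haveI := W.prop
  refine ⟨Scheme.Etale.mk (pullback.snd g.left a ≫ W.hom),
    MorphismProperty.Over.homMk (pullback.snd g.left a) rfl trivial, pullback.fst g.left a, ?_,
    IsPullback.of_hasPullback _ _⟩
  change pullback.fst g.left a ≫ U.hom = (pullback.snd g.left a ≫ W.hom) ≫ t
  rw [← MorphismProperty.Over.w g]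
  refine (Category.assoc _ _ _).symm.trans ((congrArg (· ≫ V.hom) pullback.condition).trans ?_)
  rw [Category.assoc, Category.assoc]
  exact congrArg _ w

/-- the vanishing locus pulls back into the vanishing locus -/
theorem res_mem_nullLocus (l : F ⟶ (EtCoh.push t).obj G) {V : X.Etale} {W : Y.Etale} (a : W.left ⟶ V.left)
    (w : a ≫ V.hom = W.hom ≫ t) (s : F.obj.obj (op V)) {x : W.left} (hx : a.base x ∈ nullLocus F V s) :
    x ∈ nullLocus G W (res t l a w s) := by
  obtain ⟨U, g, z, hz, hg⟩ := hx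
  obtain ⟨Q, q, b, hb, hQ⟩ := exists_pullback_over t g a w
  obtain ⟨p, -, hp⟩ := exists_point_of_isPullback hQ z x hz
  refine ⟨Q, q, p, hp, ?_⟩
  have wq : (q.left ≫ a) ≫ V.hom = Q.hom ≫ t := by
    rw [Category.assoc, w, ← Category.assoc]
    exact congrArg (· ≫ t) (MorphismProperty.Over.w q)
  rw [res_map_right l a w q _ rfl wq, ← res_map_left l b hb g (q.left ≫ a) hQ.w wq, hg, map_zero]

end res

/-- restriction to an étale morphism preserves the vanishing locus -/
theorem map_mem_nullLocus {X : Scheme.{u}} {F : EtCoh.Ab X} {V W : X.Etale} (g : W ⟶ V) (s : F.obj.obj (op V))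
    {x : W.left} (hx : g.left.base x ∈ nullLocus F V s) : x ∈ nullLocus F W (F.obj.map g.op s) := by
  obtain ⟨U, h, z, hz, hh⟩ := hx
  have w : g.left ≫ V.hom = W.hom ≫ 𝟙 X := (MorphismProperty.Over.w g).trans (Category.comp_id _).symm
  obtain ⟨Q, q, b, hb, hQ⟩ := exists_pullback_over (𝟙 X) h g.left w
  obtain ⟨p, -, hp⟩ := exists_point_of_isPullback hQ z x hz
  let b' : Q ⟶ U := MorphismProperty.Over.homMk b (hb.trans (Category.comp_id _)) trivial
  refine ⟨Q, q, p, hp, ?_⟩
  have e : q ≫ g = b' ≫ h := MorphismProperty.Over.Hom.ext hQ.w.symm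
  rw [← Functor.map_comp_apply, ← op_comp, e, op_comp, Functor.map_comp_apply, hh, map_zero]

end Groth.Agent.EtLim8
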