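import Groth.Agent.EtLim8.Coh

/-!
# Systems pulled back from one stage
-/

set_option autoImplicit false
set_option linter.style.haveILetI false
set_option linter.unusedSectionVars false
set_option linter.unusedVariables false
set_option backward.isDefEq.respectTransparency.types false

universe u

open CategoryTheory CategoryTheory.Limits AlgebraicGeometry Opposite Abelian

namespace Groth.Agent.EtLim8

/-- compatibility transfers to the generated maps -/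
theorem compat_of_generated {A B C D : Scheme.{u}} {t₁ : B ⟶ A} {t₂ : C ⟶ B} {t₁₂ : C ⟶ A} {t₃ : D ⟶ C}
    {t₂₃ : D ⟶ B} {t : D ⟶ A} (h₁ : t₂ ≫ t₁ = t₁₂) (h₂ : t₃ ≫ t₂ = t₂₃) (h₃ : t₂₃ ≫ t₁ = t)
    (h₄ : t₃ ≫ t₁₂ = t) {F : EtCoh.Ab A} {H : EtCoh.Ab C} {K : EtCoh.Ab D}
    (β : F ⟶ (EtCoh.push t₁₂).obj H) (γ : F ⟶ (EtCoh.push t).obj K)
    (m : (EtCoh.pull t₁).obj F ⟶ (EtCoh.push t₂).obj H) (n : H ⟶ (EtCoh.push t₃).obj K)
    (p : (EtCoh.pull t₁).obj F ⟶ (EtCoh.push t₂₃).obj K)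
    (hm : Compat ((EtCoh.pullPushAdj t₁).unit.app F) m β) (hn : Compat β n γ)
    (hp : Compat ((EtCoh.pullPushAdj t₁).unit.app F) p γ) : Compat m n p := by
  rw [compat_iff h₂]
  rw [compat_iff h₁] at hm
  rw [compat_iff h₃] at hp
  rw [compat_iff h₄] at hn
  apply ((EtCoh.pullPushAdj t₁).homEquiv _ _).injective
  rw [Adjunction.homEquiv_unit, Adjunction.homEquiv_unit, Functor.map_comp, Functor.map_comp,
    ← Category.assoc, hm, ← Category.assoc, hp, Category.assoc, Category.assoc,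
    pushCmp_assoc h₁ h₂ h₃ h₄, ← pushCmp_natural, ← Category.assoc, hn, Category.assoc]

/-- the isomorphism between iterated and direct inverse images -/
noncomputable def pullCmp {X Y Z : Scheme.{u}} (t₁ : Y ⟶ X) (t₂ : Z ⟶ Y) (t₃ : Z ⟶ X) (hw : t₂ ≫ t₁ = t₃)
    (F : EtCoh.Ab X) : (EtCoh.pull t₂).obj ((EtCoh.pull t₁).obj F) ≅ (EtCoh.pull t₃).obj F :=
  ((EtCore.pullComp t₂ t₁).symm ≪≫ EtCore.pullCongr hw).app F

theorem compat_pullCmp {X Y Z : Scheme.{u}} (t₁ : Y ⟶ X) (t₂ : Z ⟶ Y) (t₃ : Z ⟶ X) (hw : t₂ ≫ t₁ = t₃)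
    (F : EtCoh.Ab X) :
    Compat ((EtCoh.pullPushAdj t₁).unit.app F)
      ((EtCoh.pullPushAdj t₂).homEquiv _ _ (pullCmp t₁ t₂ t₃ hw F).hom) ((EtCoh.pullPushAdj t₃).unit.app F) := by
  rw [← Adjunction.homEquiv_id, ← Adjunction.homEquiv_id]
  refine compat_of_pullComp hw.symm _ _ _ ?_
  subst hw
  simp [pullCmp, EtCore.pullCongr]

section desc

variable {ι : Type u} [Preorder ι] [IsDirected ι (· ≤ ·)] [Nonempty ι] {Xs : ιᵒᵖ ⥤ Scheme.{u}} {c : Cone Xs}
  (S : Sys Xs) (hU : S.IsUnital) {M : EtCoh.Ab c.pt} (e : ∀ j, (EtCoh.pull (pr c j)).obj (S.F j) ⟶ M)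
  (he : ∀ ⦃i j : ι⦄ (h : i ≤ j), Compat (S.l h) ((EtCoh.pullPushAdj (pr c j)).homEquiv _ _ (e j))
    ((EtCoh.pullPushAdj (pr c i)).homEquiv _ _ (e i)))

include he in
theorem Sys.map_desc {i j : ι} (h : i ≤ j) : S.pullMap c h ≫ e j = e i := by
  apply ((EtCoh.pullPushAdj (pr c i)).homEquiv _ _).injective
  refine Compat.unique (pr_tr c h) ?_ (he h)
  intro V W W' a w b w' d we hbe s
  rw [Adjunction.homEquiv_naturality_right, res_comp_push_map, res_homEquiv,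
    S.compat_pullMap h V W W' a w b w' d we hbe s]

/-- compatible maps out of the inverse images give a map out of the colimit -/
noncomputable def Sys.descColim : colimit (S.diag c hU).G ⟶ M :=
  colimit.desc _
    { pt := M
      ι :=
        { app := fun j => e j
          naturality := fun i j h => (S.map_desc e he (leOfHom h)).trans (Category.comp_id _).symm } }

theorem Sys.ι_descColim (j : ι) : colimit.ι (S.diag c hU).G j ≫ S.descColim hU e he = e j :=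
  colimit.ι_desc _ j

include he in
theorem Sys.isIso_descColim (hi : ∀ j, IsIso (e j)) : IsIso (S.descColim hU e he) := by
  obtain ⟨i₀⟩ := ‹Nonempty ι›
  haveI := hi i₀
  refine ⟨inv (e i₀) ≫ colimit.ι (S.diag c hU).G i₀, colimit.hom_ext fun j => ?_, ?_⟩
  · rw [← Category.assoc, S.ι_descColim, Category.comp_id]
    obtain ⟨k, hjk, h₀k⟩ := exists_ge_ge j i₀
    haveI := hi k
    rw [← colimit.w (S.diag c hU).G (homOfLE hjk), ← colimit.w (S.diag c hU).G (homOfLE h₀k)]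
    change e j ≫ inv (e i₀) ≫ S.pullMap c h₀k ≫ colimit.ι (S.diag c hU).G k =
      S.pullMap c hjk ≫ colimit.ι (S.diag c hU).G k
    have h1 : S.pullMap c h₀k = e i₀ ≫ inv (e k) := by rw [IsIso.eq_comp_inv, S.map_desc e he]
    have h2 : S.pullMap c hjk = e j ≫ inv (e k) := by rw [IsIso.eq_comp_inv, S.map_desc e he]
    rw [h1, h2]
    simp
  · exact (Category.assoc _ _ _).trans
      ((congrArg (inv (e i₀) ≫ ·) (S.ι_descColim hU e he i₀)).trans (IsIso.inv_hom_id _))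

theorem Sys.colimH_descColim (j : ι) (p : ℕ) [PreservesFiniteLimits (EtCoh.pull (pr c j))]
    (ξ : EtCoh.H (Xs.obj (op j)) (S.F j) p) :
    (S.colimH c hU j p ξ).comp (Ext.mk₀ (S.descColim hU e he)) (add_zero p) =
      EtLim.HpullThen (pr c j) (S.F j) (e j) p ξ :=
  (HpullThen_comp_mk₀ (pr c j) _ _ p ξ).trans
    (congrArg (fun r => EtLim.HpullThen (pr c j) _ r p ξ) (S.ι_descColim hU e he j))

end desc

variable {ι : Type u} [Preorder ι] [IsDirected ι (· ≤ ·)] (Xs : ιᵒᵖ ⥤ Scheme.{u}) (i₀ : ι)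

/-- restriction of the inverse system to the indices above `i₀` -/
def iciFunctor : (Set.Ici i₀)ᵒᵖ ⥤ ιᵒᵖ :=
  (Monotone.functor (f := (Subtype.val : Set.Ici i₀ → ι)) fun _ _ h => h).op

instance isDirected_ici : IsDirected (Set.Ici i₀) (· ≤ ·) := ⟨fun a b => by
  obtain ⟨k, hak, hbk⟩ := exists_ge_ge a.1 b.1
  exact ⟨⟨k, le_trans a.2 hak⟩, hak, hbk⟩⟩

instance nonempty_ici : Nonempty (Set.Ici i₀) := ⟨⟨i₀, le_refl i₀⟩⟩

instance initial_iciFunctor : (iciFunctor i₀).Initial :=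
  haveI : Nonempty ι := ⟨i₀⟩
  Functor.initial_of_exists_of_isCofiltered _ (fun d => by
    obtain ⟨k, h₁, h₂⟩ := exists_ge_ge i₀ d.unop
    exact ⟨op ⟨k, h₁⟩, ⟨(homOfLE h₂).op⟩⟩)
    (fun {d j} s s' => ⟨j, 𝟙 j, Subsingleton.elim _ _⟩)

variable (F₀ : EtCoh.Ab (Xs.obj (op i₀)))

/-- the system pulled back from `i₀` -/
noncomputable def constSys : Sys (iciFunctor i₀ ⋙ Xs) where
  F j := (EtCoh.pull (tr Xs j.2)).obj F₀
  l := fun j k h => (EtCoh.pullPushAdj (tr Xs h)).homEquiv _ _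
    (pullCmp (tr Xs j.2) (tr Xs h) (tr Xs k.2) (tr_comp Xs j.2 h) F₀).hom
  comp := fun i j k hij hjk => compat_of_generated (tr_comp Xs i.2 hij) (tr_comp Xs hij hjk)
    (tr_comp Xs i.2 (hij.trans hjk)) (tr_comp Xs j.2 hjk)
    ((EtCoh.pullPushAdj (tr Xs j.2)).unit.app F₀) ((EtCoh.pullPushAdj (tr Xs k.2)).unit.app F₀) _ _ _
    (compat_pullCmp _ _ _ _ F₀) (compat_pullCmp _ _ _ _ F₀) (compat_pullCmp _ _ _ _ F₀)

theorem constSys_isUnital : (constSys Xs i₀ F₀).IsUnital := by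
  rw [isUnital_iff]
  intro j
  apply ((EtCoh.pullPushAdj (tr Xs j.2)).homEquiv _ _).injective
  rw [Adjunction.homEquiv_unit, Adjunction.homEquiv_unit]
  refine ((compat_iff (tr_comp Xs j.2 (le_refl j.1)) _ _ _).1
    (compat_pullCmp (tr Xs j.2) (tr Xs (le_refl j.1)) (tr Xs j.2) (tr_comp Xs j.2 (le_refl j.1)) F₀)).trans ?_
  refine congrArg ((EtCoh.pullPushAdj (tr Xs j.2)).unit.app F₀ ≫ ·) ?_
  refine Sheaf.hom_ext (NatTrans.ext (funext fun V => AddCommGrpCat.hom_ext (AddMonoidHom.ext fun s => ?_)))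
  change ((EtCoh.pull (tr Xs j.2)).obj F₀).obj.map
      (bcCmp (tr Xs j.2) (tr Xs (le_refl j.1)) (tr Xs j.2) (tr_comp Xs j.2 (le_refl j.1)) V.unop).hom.op s =
    ((EtCoh.pull (tr Xs j.2)).obj F₀).obj.map _ s
  refine congrArg (fun r => (((EtCoh.pull (tr Xs j.2)).obj F₀).obj.map r).hom s)
    (congrArg Quiver.Hom.op (hom_bc_ext ?_))
  exact liftBc_fst _ _ _

variable {Xs} (c : Cone Xs)

/-- the comparison from a stage to the inverse image on the limit -/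
noncomputable def constIso (j : Set.Ici i₀) :
    (EtCoh.pull (pr c j.1)).obj ((EtCoh.pull (tr Xs j.2)).obj F₀) ≅ (EtCoh.pull (pr c i₀)).obj F₀ :=
  pullCmp (tr Xs j.2) (pr c j.1) (pr c i₀) (pr_tr c j.2) F₀

theorem constIso_compat ⦃i j : Set.Ici i₀⦄ (h : i ≤ j) :
    Compat ((constSys Xs i₀ F₀).l h) ((EtCoh.pullPushAdj (pr c j.1)).homEquiv _ _ (constIso i₀ F₀ c j).hom)
      ((EtCoh.pullPushAdj (pr c i.1)).homEquiv _ _ (constIso i₀ F₀ c i).hom) :=
  compat_of_generated (tr_comp Xs i.2 h) (pr_tr c h) (pr_tr c i.2) (pr_tr c j.2)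
    ((EtCoh.pullPushAdj (tr Xs j.2)).unit.app F₀) ((EtCoh.pullPushAdj (pr c i₀)).unit.app F₀) _ _ _
    (compat_pullCmp _ _ _ _ F₀) (compat_pullCmp _ _ _ _ F₀) (compat_pullCmp _ _ _ _ F₀)

/-- the colimit of the constant system is the inverse image -/
noncomputable def constColimHom :
    colimit ((constSys Xs i₀ F₀).diag (c.whisker (iciFunctor i₀)) (constSys_isUnital Xs i₀ F₀)).G ⟶
      (EtCoh.pull (pr c i₀)).obj F₀ :=
  (constSys Xs i₀ F₀).descColim (c := c.whisker (iciFunctor i₀)) (constSys_isUnital Xs i₀ F₀)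
    (fun j => (constIso i₀ F₀ c j).hom) (constIso_compat i₀ F₀ c)

instance isIso_constColimHom : IsIso (constColimHom i₀ F₀ c) :=
  Sys.isIso_descColim (c := c.whisker (iciFunctor i₀)) (constSys Xs i₀ F₀) (constSys_isUnital Xs i₀ F₀) _ _
    (fun j => inferInstanceAs (IsIso (constIso i₀ F₀ c j).hom))

theorem colimH_constColimHom (j : Set.Ici i₀) (p : ℕ) [PreservesFiniteLimits (EtCoh.pull (pr c j.1))]
    (ξ : EtCoh.H (Xs.obj (op j.1)) ((EtCoh.pull (tr Xs j.2)).obj F₀) p) :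
    ((constSys Xs i₀ F₀).colimH (c.whisker (iciFunctor i₀)) (constSys_isUnital Xs i₀ F₀) j p ξ).comp
        (Ext.mk₀ (constColimHom i₀ F₀ c)) (add_zero p) =
      EtCore.HpullVia (pr c j.1) (tr Xs j.2) (pr c i₀) (pr_tr c j.2) F₀ p ξ :=
  Sys.colimH_descColim (c := c.whisker (iciFunctor i₀)) (constSys Xs i₀ F₀) (constSys_isUnital Xs i₀ F₀) _
    (constIso_compat i₀ F₀ c) j p ξ

end Groth.Agent.EtLim8
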