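import Groth.Agent.EtLim8.Adj
import Groth.Agent.EtFound.PullGerm
import Groth.Agent.EtFound.PointHom
import Groth.Agent.EtFound.GermSupp
import Groth.Agent.EtFound.QcqsObjects

/-!
# Colimits on the limit of inverse images from the stages
-/

set_option autoImplicit false
set_option linter.style.haveILetI false
set_option linter.unusedSectionVars false
set_option linter.unusedVariables false
set_option backward.isDefEq.respectTransparency.types false

universe u

open CategoryTheory CategoryTheory.Limits AlgebraicGeometry Opposite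

namespace Groth.Agent.EtLim8

open EtFound

section pull

variable {X Y : Scheme.{u}} (f : X ⟶ Y) (F : EtCoh.Ab Y)

theorem ptOf_bcFiberEquiv {Ω : Type u} [Field Ω] [IsSepClosed Ω] (ξ : Spec (CommRingCat.of Ω) ⟶ X)
    (V : Y.Etale) (z : (Scheme.pointSmallEtale ξ).fiber.obj ((EtCoh.bc f).obj V)) :
    ptOf (bcFiberEquiv f ξ V z) = (bcFst f V).base (ptOf z) :=
  Scheme.Hom.comp_apply _ _ _

/-- sections of an inverse image come locally from sections -/
theorem exists_res_unit_eq {W : X.Etale} (σ : ((EtCoh.pull f).obj F).obj.obj (op W)) (x : W.left) :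
    ∃ (W' : X.Etale) (q : W' ⟶ W) (y : W'.left), q.left.base y = x ∧
      ∃ (V : Y.Etale) (a : W'.left ⟶ V.left) (w : a ≫ V.hom = W'.hom ≫ f) (s : F.obj.obj (op V)),
        res f ((EtCoh.pullPushAdj f).unit.app F) a w s = ((EtCoh.pull f).obj F).obj.map q.op σ := by
  obtain ⟨Ω, _, _, ξ, z, hz⟩ := exists_point_through W x
  let i := (sheafFiberPullIso (A := AddCommGrpCat.{u + 1}) f ξ).app F
  obtain ⟨V, w₀, s, hs⟩ := (Scheme.pointSmallEtale (ξ ≫ f)).toPresheafFiber_jointly_surjective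
    (i.hom ((Scheme.pointSmallEtale ξ).toPresheafFiber W z ((EtCoh.pull f).obj F).obj σ))
  let t := (bcFiberEquiv f ξ V).symm w₀
  have ht : (Scheme.pointSmallEtale ξ).toPresheafFiber ((EtCoh.bc f).obj V) t ((EtCoh.pull f).obj F).obj
      (((EtCoh.pullPushAdj f).unit.app F).hom.app (op V) s) =
      (Scheme.pointSmallEtale ξ).toPresheafFiber W z ((EtCoh.pull f).obj F).obj σ := by
    refine (ConcreteCategory.congr_hom (sheafFiberPullIso_germ f ξ F V t) s).symm.trans ?_
    rw [ConcreteCategory.comp_apply, Equiv.apply_symm_apply]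
    exact (congrArg ((sheafFiberPullIso (A := AddCommGrpCat.{u + 1}) f ξ).inv.app F).hom hs).trans
      (ConcreteCategory.congr_hom i.hom_inv_id _)
  obtain ⟨⟨T, τ⟩, ⟨a₀, ha₀⟩, ⟨b₀, hb₀⟩, -⟩ := IsCofilteredOrEmpty.cone_objs
    ((Scheme.pointSmallEtale ξ).fiber.elementsMk ((EtCoh.bc f).obj V) t)
    ((Scheme.pointSmallEtale ξ).fiber.elementsMk W z)
  obtain ⟨a', ha'⟩ : ∃ a' : T ⟶ (EtCoh.bc f).obj V, (Scheme.pointSmallEtale ξ).fiber.map a' τ = t := ⟨a₀, ha₀⟩
  obtain ⟨b', hb'⟩ : ∃ b' : T ⟶ W, (Scheme.pointSmallEtale ξ).fiber.map b' τ = z := ⟨b₀, hb₀⟩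
  rw [← ha', ← hb', ← (Scheme.pointSmallEtale ξ).toPresheafFiber_w_apply,
    ← (Scheme.pointSmallEtale ξ).toPresheafFiber_w_apply] at ht
  obtain ⟨T', h, v, hv, hh⟩ := ((Scheme.pointSmallEtale ξ).toPresheafFiber_eq_iff' T τ _ _).1 ht
  have wa : ((h ≫ a').left ≫ bcFst f V) ≫ V.hom = T'.hom ≫ f := by
    rw [Category.assoc, bcFst_w, ← Category.assoc]
    exact congrArg (· ≫ f) (MorphismProperty.Over.w (h ≫ a'))
  refine ⟨T', h ≫ b', ptOf v, ?_, V, (h ≫ a').left ≫ bcFst f V, wa, s, ?_⟩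
  · rw [← ptOf_map, Functor.map_comp_apply, hv, hb']
    exact hz (default : Spec (CommRingCat.of Ω))
  · rw [op_comp, Functor.map_comp_apply, ← hh, ← Functor.map_comp_apply, ← op_comp,
      ← res_map_right ((EtCoh.pullPushAdj f).unit.app F) (bcFst f V) (bcFst_w f V) (h ≫ a') _ rfl wa,
      res_bcFst]

/-- a section whose inverse image vanishes is zero near the image -/
theorem mem_nullLocus_of_res_unit_eq_zero {V : Y.Etale} {W : X.Etale} (a : W.left ⟶ V.left)
    (w : a ≫ V.hom = W.hom ≫ f) (s : F.obj.obj (op V))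
    (h : res f ((EtCoh.pullPushAdj f).unit.app F) a w s = 0) (x : W.left) : a.base x ∈ nullLocus F V s := by
  obtain ⟨Ω, _, _, ξ, z, hz⟩ := exists_point_through W x
  let t := (Scheme.pointSmallEtale ξ).fiber.map (liftBc f a w) z
  have h0 : (Scheme.pointSmallEtale ξ).toPresheafFiber ((EtCoh.bc f).obj V) t ((EtCoh.pull f).obj F).obj
      (((EtCoh.pullPushAdj f).unit.app F).hom.app (op V) s) =
      (Scheme.pointSmallEtale ξ).toPresheafFiber ((EtCoh.bc f).obj V) t ((EtCoh.pull f).obj F).obj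
      (((EtCoh.pullPushAdj f).unit.app F).hom.app (op V) 0) := by
    refine Eq.trans ?_ ((congrArg _ (map_zero _)).trans (map_zero _)).symm
    exact ((Scheme.pointSmallEtale ξ).toPresheafFiber_w_apply (liftBc f a w) z
      ((EtCoh.pull f).obj F).obj _).symm.trans ((congrArg _ h).trans (map_zero _))
  have h1 := (germ_unit_eq_iff f ξ F V t s 0).1 h0
  obtain ⟨U, g, v, hv, hg⟩ := ((Scheme.pointSmallEtale (ξ ≫ f)).toPresheafFiber_eq_iff' V _ _ _).1 h1
  refine ⟨U, g, ptOf v, ?_, hg.trans (map_zero _)⟩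
  rw [← ptOf_map, hv, ptOf_bcFiberEquiv, ptOf_map, ← Scheme.Hom.comp_apply, liftBc_fst]
  exact congrArg a.base (hz (default : Spec (CommRingCat.of Ω)))

theorem res_homEquiv {G : EtCoh.Ab X} (α : (EtCoh.pull f).obj F ⟶ G) {V : Y.Etale} {W : X.Etale}
    (a : W.left ⟶ V.left) (w : a ≫ V.hom = W.hom ≫ f) (s : F.obj.obj (op V)) :
    res f ((EtCoh.pullPushAdj f).homEquiv _ _ α) a w s =
      (α.hom.app (op W)).hom (res f ((EtCoh.pullPushAdj f).unit.app F) a w s) := by
  rw [Adjunction.homEquiv_unit, res_comp_push_map]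

end pull

variable {ι : Type u} [Preorder ι] [IsDirected ι (· ≤ ·)] [Nonempty ι] {Xs : ιᵒᵖ ⥤ Scheme.{u}} {c : Cone Xs}

/-- a diagram on the limit made of the inverse images of the members of a system -/
structure Diag (S : Sys Xs) (c : Cone Xs) where
  G : ι ⥤ EtCoh.Ab c.pt
  ψ : ∀ i : ι, (EtCoh.pull (pr c i)).obj (S.F i) ≅ G.obj i
  compat : ∀ ⦃i j : ι⦄ (h : i ≤ j), Compat (S.l h) ((EtCoh.pullPushAdj (pr c j)).homEquiv _ _ (ψ j).hom)
    ((EtCoh.pullPushAdj (pr c i)).homEquiv _ _ ((ψ i).hom ≫ G.map (homOfLE h)))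

variable {S : Sys Xs} (D : Diag S c)

/-- the colimit as a target -/
noncomputable def Diag.target : Target S c where
  G := colimit D.G
  g i := (EtCoh.pullPushAdj (pr c i)).homEquiv _ _ ((D.ψ i).hom ≫ colimit.ι D.G i)
  comp i j h := by
    intro V W W' a w b w' e we hbe s
    rw [Adjunction.homEquiv_naturality_right, Adjunction.homEquiv_naturality_right, res_comp_push_map,
      D.compat h V W W' a w b w' e we hbe s, Adjunction.homEquiv_naturality_right, res_comp_push_map,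
      res_comp_push_map, ← ConcreteCategory.comp_apply]
    exact congrArg (fun r : D.G.obj i ⟶ colimit D.G => (r.hom.app (op W')).hom _) (colimit.w D.G (homOfLE h))

theorem Diag.exists_rep {W : c.pt.Etale} (hW : IsQcqsObj W) (σ : (colimit D.G).obj.obj (op W)) :
    ∃ (j : ι) (τ : (D.G.obj j).obj.obj (op W)), ((colimit.ι D.G j).hom.app (op W)).hom τ = σ := by
  haveI : PreservesColimitsOfShape (AsSmall.{u + 1} ι) (sheafToPresheaf c.pt.smallEtaleTopology
      AddCommGrpCat.{u + 1} ⋙ (evaluation c.pt.Etaleᵒᵖ AddCommGrpCat.{u + 1}).obj (op W)) :=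
    haveI : IsFiltered (AsSmall.{u + 1} ι) := IsFiltered.of_equivalence AsSmall.equiv
    preservesColimitsOfShape_sections_qcqs_ab W hW _
  let hc := isColimitOfPreserves (sheafToPresheaf c.pt.smallEtaleTopology AddCommGrpCat.{u + 1} ⋙
    (evaluation c.pt.Etaleᵒᵖ AddCommGrpCat.{u + 1}).obj (op W))
    ((colimit.isColimit D.G).whiskerEquivalence (AsSmall.equiv : ι ≌ AsSmall.{u + 1} ι).symm)
  obtain ⟨⟨j⟩, τ, hτ⟩ := Concrete.isColimit_exists_rep _ hc σ
  exact ⟨j, τ, hτ⟩

theorem Diag.exists_eq_zero' {W : c.pt.Etale} (hW : IsQcqsObj W) {j : ι} (τ : (D.G.obj j).obj.obj (op W))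
    (h : ((colimit.ι D.G j).hom.app (op W)).hom τ = 0) :
    ∃ (k : ι) (hjk : j ≤ k), ((D.G.map (homOfLE hjk)).hom.app (op W)).hom τ = 0 := by
  haveI : IsFiltered (AsSmall.{u + 1} ι) := IsFiltered.of_equivalence AsSmall.equiv
  haveI : PreservesColimitsOfShape (AsSmall.{u + 1} ι) (sheafToPresheaf c.pt.smallEtaleTopology
      AddCommGrpCat.{u + 1} ⋙ (evaluation c.pt.Etaleᵒᵖ AddCommGrpCat.{u + 1}).obj (op W)) :=
    preservesColimitsOfShape_sections_qcqs_ab W hW _
  let hc := isColimitOfPreserves (sheafToPresheaf c.pt.smallEtaleTopology AddCommGrpCat.{u + 1} ⋙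
    (evaluation c.pt.Etaleᵒᵖ AddCommGrpCat.{u + 1}).obj (op W))
    ((colimit.isColimit D.G).whiskerEquivalence (AsSmall.equiv : ι ≌ AsSmall.{u + 1} ι).symm)
  obtain ⟨⟨k⟩, u₁, u₂, huv⟩ := Concrete.isColimit_exists_of_rep_eq _ hc (i := ⟨j⟩) (j := ⟨j⟩) τ 0
    (h.trans (map_zero _).symm)
  exact ⟨k, leOfHom u₁.down, huv.trans (map_zero _)⟩

set_option maxHeartbeats 800000 in
theorem Diag.isColim : D.target.IsColim where
  surj W σ x := by
    obtain ⟨B, hB, hxB, -⟩ := exists_isAffineOpen_mem_and_subset (U := (⊤ : W.left.Opens))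
      (TopologicalSpace.Opens.mem_top x)
    haveI : AlgebraicGeometry.Etale W.hom := W.prop
    let W₁ : c.pt.Etale := Scheme.Etale.mk (B.ι ≫ W.hom)
    let inc : W₁ ⟶ W := MorphismProperty.Over.homMk B.ι rfl trivial
    haveI : IsAffine W₁.left := hB
    obtain ⟨j, τ, hτ⟩ := D.exists_rep (isQcqsObj_of_isAffine W₁) ((colimit D.G).obj.map inc.op σ)
    obtain ⟨W', q, y, hy, V, a, w, s, hs⟩ := exists_res_unit_eq (pr c j) (S.F j)
      (((D.ψ j).inv.hom.app (op W₁)).hom τ) (⟨x, hxB⟩ : B)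
    refine ⟨W', q ≫ inc, y, ?_, j, V, a, w, s, ?_⟩
    · change (q.left ≫ inc.left).base y = x
      rw [Scheme.Hom.comp_apply, hy]
      rfl
    · change res _ ((EtCoh.pullPushAdj (pr c j)).homEquiv _ _ ((D.ψ j).hom ≫ colimit.ι D.G j)) a w s = _
      rw [res_homEquiv, hs, NatTrans.naturality_apply, op_comp, Functor.map_comp_apply]
      refine congrArg ((colimit D.G).obj.map q.op).hom (Eq.trans ?_ hτ)
      exact congrArg ((colimit.ι D.G j).hom.app (op W₁)).hom
        (congrArg (fun r : D.G.obj j ⟶ D.G.obj j => (r.hom.app (op W₁)).hom τ) (D.ψ j).inv_hom_id)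
  inj j V W a w s h x := by
    change res _ ((EtCoh.pullPushAdj (pr c j)).homEquiv _ _ ((D.ψ j).hom ≫ colimit.ι D.G j)) a w s = 0 at h
    obtain ⟨B, hB, hxB, -⟩ := exists_isAffineOpen_mem_and_subset (U := (⊤ : W.left.Opens))
      (TopologicalSpace.Opens.mem_top x)
    haveI : AlgebraicGeometry.Etale W.hom := W.prop
    let W₁ : c.pt.Etale := Scheme.Etale.mk (B.ι ≫ W.hom)
    let inc : W₁ ⟶ W := MorphismProperty.Over.homMk B.ι rfl trivial
    haveI : IsAffine W₁.left := hB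
    have w₁ : (inc.left ≫ a) ≫ V.hom = W₁.hom ≫ pr c j := by
      rw [Category.assoc, w, ← Category.assoc]
      exact congrArg (· ≫ _) (MorphismProperty.Over.w inc)
    have h₁ : res _ ((EtCoh.pullPushAdj (pr c j)).homEquiv _ _ ((D.ψ j).hom ≫ colimit.ι D.G j))
        (inc.left ≫ a) w₁ s = 0 := by
      rw [← res_map_right _ a w inc _ rfl w₁, h, map_zero]
    rw [res_homEquiv] at h₁
    obtain ⟨k, hjk, hk⟩ := D.exists_eq_zero' (isQcqsObj_of_isAffine W₁)
      (((D.ψ j).hom.hom.app (op W₁)).hom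
        (res (pr c j) ((EtCoh.pullPushAdj (pr c j)).unit.app (S.F j)) (inc.left ≫ a) w₁ s)) h₁
    let V' := (EtCoh.bc (tr Xs hjk)).obj V
    let b : W.left ⟶ V'.left := pullback.lift a (W.hom ≫ pr c k) (by rw [Category.assoc, pr_tr]; exact w)
    have hb : b ≫ bcFst (tr Xs hjk) V = a := pullback.lift_fst _ _ _
    have wb : b ≫ V'.hom = W.hom ≫ pr c k := pullback.lift_snd _ _ _
    have wb₁ : (inc.left ≫ b) ≫ V'.hom = W₁.hom ≫ pr c k := by
      rw [Category.assoc, wb, ← Category.assoc]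
      exact congrArg (· ≫ _) (MorphismProperty.Over.w inc)
    refine ⟨k, hjk, V', b, wb, bcFst (tr Xs hjk) V, bcFst_w _ V, hb, ?_⟩
    have h2 := D.compat hjk V V' W₁ _ (bcFst_w _ V) (inc.left ≫ b) wb₁ (inc.left ≫ a) w₁
      (by rw [Category.assoc, hb]) s
    rw [res_homEquiv, res_homEquiv] at h2
    have h3 : res (pr c k) ((EtCoh.pullPushAdj (pr c k)).unit.app (S.F k)) (inc.left ≫ b) wb₁
        (res (tr Xs hjk) (S.l hjk) (bcFst (tr Xs hjk) V) (bcFst_w _ V) s) = 0 := by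
      refine Function.LeftInverse.injective (g := ((D.ψ k).inv.hom.app (op W₁)).hom) (fun r =>
        congrArg (fun q : (EtCoh.pull (pr c k)).obj (S.F k) ⟶ (EtCoh.pull (pr c k)).obj (S.F k) =>
          (q.hom.app (op W₁)).hom r) (D.ψ k).hom_inv_id) ?_
      exact (h2.trans hk).trans (map_zero _).symm
    have := mem_nullLocus_of_res_unit_eq_zero _ _ _ _ _ h3 (⟨x, hxB⟩ : B)
    rw [Scheme.Hom.comp_apply] at this
    exact this

end Groth.Agent.EtLim8
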