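import Groth.Agent.EtLim8.Acyclic
import Groth.Agent.EtLim8.Colim

/-!
# The colimit of a system of injective sheaves is acyclic on the limit
-/

set_option autoImplicit false
set_option linter.style.haveILetI false
set_option linter.unusedSectionVars false
set_option linter.unusedVariables false
set_option backward.isDefEq.respectTransparency.types false

universe u

open CategoryTheory CategoryTheory.Limits AlgebraicGeometry Opposite

namespace Groth.Agent.EtLim8

open EtFound EtLC12.QcqsAcyclic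

variable {ι : Type u} [Preorder ι] [IsDirected ι (· ≤ ·)] {Xs : ιᵒᵖ ⥤ Scheme.{u}} {c : Cone Xs}
  {S : Sys Xs} (hU : S.IsUnital) (m : ι)

/-- the direct images to a fixed stage of a unital system -/
noncomputable def pushDiag : Set.Ici m ⥤ EtCoh.Ab (Xs.obj (op m)) where
  obj k := (EtCoh.push (tr Xs k.2)).obj (S.F k.1)
  map {k l} h := ObjectProperty.homMk
    { app := fun V => AddCommGrpCat.ofHom (res _ (S.l (leOfHom h))
        (bcMap (tr Xs k.2) (tr Xs (leOfHom h)) (tr Xs l.2) (tr_comp Xs k.2 (leOfHom h)) V.unop) (bcMap_w _ V.unop))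
      naturality := fun V V' g => AddCommGrpCat.hom_ext (AddMonoidHom.ext fun s => by
        change res _ (S.l (leOfHom h)) _ _ ((S.F k.1).obj.map ((EtCoh.bc (tr Xs k.2)).map g.unop).op s) =
          (S.F l.1).obj.map ((EtCoh.bc (tr Xs l.2)).map g.unop).op (res _ (S.l (leOfHom h)) _ _ s)
        let p := ((EtCoh.bc (tr Xs l.2)).map g.unop).left ≫
          bcMap (tr Xs k.2) (tr Xs (leOfHom h)) (tr Xs l.2) (tr_comp Xs k.2 (leOfHom h)) V.unop
        have wp : p ≫ ((EtCoh.bc (tr Xs k.2)).obj V.unop).hom =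
            ((EtCoh.bc (tr Xs l.2)).obj V'.unop).hom ≫ tr Xs (leOfHom h) := by
          simp only [p, Category.assoc]
          rw [bcMap_w, ← Category.assoc]
          exact congrArg (· ≫ _) (MorphismProperty.Over.w ((EtCoh.bc (tr Xs l.2)).map g.unop))
        rw [res_map_right (S.l (leOfHom h)) _ _ _ p rfl wp]
        refine res_map_left (S.l (leOfHom h)) _ _ _ p ?_ wp s
        refine bc_hom_ext ?_ ?_
        · simp only [p, Category.assoc, bcMap_fst]
          refine ((congrArg (_ ≫ ·) (EtCoh.isPullback_bc_map (tr Xs k.2) g.unop).w).trans ?_).trans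
            (EtCoh.isPullback_bc_map (tr Xs l.2) g.unop).w.symm
          refine (Category.assoc _ _ _).symm.trans ?_
          exact congrArg (· ≫ g.unop.left) (bcMap_fst _ _)
        · refine (Category.assoc _ _ _).trans ?_
          refine (congrArg (_ ≫ ·) (MorphismProperty.Over.w ((EtCoh.bc (tr Xs k.2)).map g.unop))).trans ?_
          exact (bcMap_w _ _).trans wp.symm) }
  map_id k := Sheaf.hom_ext (NatTrans.ext (funext fun V => AddCommGrpCat.hom_ext (AddMonoidHom.ext fun s => by
    change res _ (S.l (le_refl k.1)) _ _ s = s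
    have w1 : (𝟙 ((EtCoh.bc (tr Xs k.2)).obj V.unop) : _ ⟶ _).left ≫ ((EtCoh.bc (tr Xs k.2)).obj V.unop).hom =
        ((EtCoh.bc (tr Xs k.2)).obj V.unop).hom ≫ tr Xs (le_refl k.1) := by
      refine (MorphismProperty.Over.w (𝟙 _)).trans ?_
      exact (Category.comp_id _).symm.trans (congrArg (_ ≫ ·) (tr_refl Xs k.1).symm)
    rw [res_congr (S.l (le_refl k.1)) (a' := (𝟙 ((EtCoh.bc (tr Xs k.2)).obj V.unop) : _ ⟶ _).left)
      (bcMap_id _ _ (tr_refl Xs k.1) _ V.unop) _ w1, hU k.1 _ _ (𝟙 _) w1, op_id, CategoryTheory.Functor.map_id]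
    rfl)))
  map_comp {k l n} h h' := Sheaf.hom_ext (NatTrans.ext (funext fun V => AddCommGrpCat.hom_ext
    (AddMonoidHom.ext fun s => (S.comp (leOfHom h) (leOfHom h') _ _ _ _ (bcMap_w _ V.unop) _ (bcMap_w _ V.unop)
      _ (bcMap_w _ V.unop) (bcMap_bcMap _ V.unop _ (tr_comp Xs (leOfHom h) (leOfHom h')) _) s).symm)))

variable {T : Target S c}

/-- the comparison to the direct image of the target -/
noncomputable def pushDiagCocone : Cocone (pushDiag hU m) where
  pt := (EtCoh.push (pr c m)).obj T.G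
  ι :=
    { app := fun k => ObjectProperty.homMk
        { app := fun V => AddCommGrpCat.ofHom (res _ (T.g k.1)
            (bcMap (tr Xs k.2) (pr c k.1) (pr c m) (pr_tr c k.2) V.unop) (bcMap_w _ V.unop))
          naturality := fun V V' g => AddCommGrpCat.hom_ext (AddMonoidHom.ext fun s => by
            change res _ (T.g k.1) _ _ ((S.F k.1).obj.map ((EtCoh.bc (tr Xs k.2)).map g.unop).op s) =
              T.G.obj.map ((EtCoh.bc (pr c m)).map g.unop).op (res _ (T.g k.1) _ _ s)
            let p := ((EtCoh.bc (pr c m)).map g.unop).left ≫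
              bcMap (tr Xs k.2) (pr c k.1) (pr c m) (pr_tr c k.2) V.unop
            have wp : p ≫ ((EtCoh.bc (tr Xs k.2)).obj V.unop).hom =
                ((EtCoh.bc (pr c m)).obj V'.unop).hom ≫ pr c k.1 := by
              simp only [p, Category.assoc]
              rw [bcMap_w, ← Category.assoc]
              exact congrArg (· ≫ _) (MorphismProperty.Over.w ((EtCoh.bc (pr c m)).map g.unop))
            rw [res_map_right (T.g k.1) _ _ _ p rfl wp]
            refine res_map_left (T.g k.1) _ _ _ p ?_ wp s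
            refine bc_hom_ext ?_ ?_
            · simp only [p, Category.assoc, bcMap_fst]
              refine ((congrArg (_ ≫ ·) (EtCoh.isPullback_bc_map (tr Xs k.2) g.unop).w).trans ?_).trans
                (EtCoh.isPullback_bc_map (pr c m) g.unop).w.symm
              refine (Category.assoc _ _ _).symm.trans ?_
              exact congrArg (· ≫ g.unop.left) (bcMap_fst _ _)
            · refine (Category.assoc _ _ _).trans ?_
              refine (congrArg (_ ≫ ·) (MorphismProperty.Over.w ((EtCoh.bc (tr Xs k.2)).map g.unop))).trans ?_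
              exact (bcMap_w _ _).trans wp.symm) }
      naturality := fun k l h => Sheaf.hom_ext (NatTrans.ext (funext fun V => AddCommGrpCat.hom_ext
        (AddMonoidHom.ext fun s => T.comp (leOfHom h) _ _ _ _ (bcMap_w _ V.unop) _ (bcMap_w _ V.unop)
          _ (bcMap_w _ V.unop) (bcMap_bcMap _ V.unop _ (pr_tr c (leOfHom h)) _) s))) }

variable [hA : ∀ {a b : ιᵒᵖ} (h : a ⟶ b), IsAffineHom (Xs.map h)] (hc : IsLimit c)

include hU hc in
set_option maxHeartbeats 1600000 in
/-- colimits of systems of injectives are acyclic -/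
theorem isLimAcyclic_of_injective_sys (hT : T.IsColim) (hI : ∀ i, Injective (S.F i)) :
    IsLimAcyclic c T.G := by
  intro m
  haveI : Nonempty (Set.Ici m) := ⟨⟨m, le_refl m⟩⟩
  haveI : IsDirected (Set.Ici m) (· ≤ ·) := ⟨fun a b => by
    obtain ⟨k, hak, hbk⟩ := exists_ge_ge a.1 b.1
    exact ⟨⟨k, le_trans a.2 hak⟩, hak, hbk⟩⟩
  let eqv : Set.Ici m ≌ AsSmall.{u + 1} (Set.Ici m) := AsSmall.equiv
  haveI : IsFiltered (AsSmall.{u + 1} (Set.Ici m)) := IsFiltered.of_equivalence eqv
  let D := eqv.inverse ⋙ pushDiag hU m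
  let cc : Cocone D := (pushDiagCocone (T := T) hU m).whisker eqv.inverse
  suffices h : IsIso (colimit.desc D cc) by
    have h1 : IsCechAcyclic (colimit D) := isCechAcyclic_colimit D fun k =>
      haveI := hI (eqv.inverse.obj k).1
      @isCechAcyclic_of_injective _ (D.obj k)
        (injective_push (tr Xs (eqv.inverse.obj k).2) (S.F (eqv.inverse.obj k).1))
    intro U _ κ _ Uf hU' hUf p
    exact (h1 U κ Uf hU' hUf p).of_iso
      ((sheafToPresheaf _ _ ⋙ EtCech.cechHFunctor Uf (p + 1)).mapIso (asIso (colimit.desc D cc))).symm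
  refine isIso_of_bijective_qcqs _ fun V hV => ?_
  haveI : PreservesColimitsOfShape (AsSmall.{u + 1} (Set.Ici m))
      (sheafToPresheaf (Xs.obj (op m)).smallEtaleTopology AddCommGrpCat.{u + 1} ⋙
        (evaluation (Xs.obj (op m)).Etaleᵒᵖ AddCommGrpCat.{u + 1}).obj (op V)) :=
    preservesColimitsOfShape_sections_qcqs_ab V hV _
  let hc' := isColimitOfPreserves (sheafToPresheaf (Xs.obj (op m)).smallEtaleTopology AddCommGrpCat.{u + 1} ⋙
        (evaluation (Xs.obj (op m)).Etaleᵒᵖ AddCommGrpCat.{u + 1}).obj (op V)) (colimit.isColimit D)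
  have hι : ∀ (k : AsSmall.{u + 1} (Set.Ici m)) (s : (D.obj k).obj.obj (op V)),
      ((colimit.desc D cc).hom.app (op V)).hom (((colimit.ι D k).hom.app (op V)).hom s) =
        ((cc.ι.app k).hom.app (op V)).hom s := fun k s =>
    congrArg (fun r : D.obj k ⟶ cc.pt => (r.hom.app (op V)).hom s) (colimit.ι_desc cc k)
  refine ⟨(injective_iff_map_eq_zero _).2 fun x hx => ?_, fun σ => ?_⟩
  · obtain ⟨⟨⟨k, hmk⟩⟩, s, rfl⟩ := Concrete.isColimit_exists_rep _ hc' x
    have hx' : res _ (T.g k) (bcMap (tr Xs hmk) (pr c k) (pr c m) (pr_tr c hmk) V) (bcMap_w _ V) s = 0 :=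
      (hι _ s).symm.trans hx
    let W := (EtCoh.bc (pr c k)).obj ((EtCoh.bc (tr Xs hmk)).obj V)
    have wm : (bcFst (pr c k) ((EtCoh.bc (tr Xs hmk)).obj V) ≫ bcFst (tr Xs hmk) V) ≫ V.hom =
        W.hom ≫ pr c m := by
      rw [Category.assoc, bcFst_w, ← Category.assoc, bcFst_w, Category.assoc, pr_tr]
    let μ : W ⟶ (EtCoh.bc (pr c m)).obj V := liftBc (pr c m) _ wm
    have hμ : μ.left ≫ bcMap (tr Xs hmk) (pr c k) (pr c m) (pr_tr c hmk) V =
        bcFst (pr c k) ((EtCoh.bc (tr Xs hmk)).obj V) := by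
      refine bc_hom_ext ?_ ?_
      · rw [Category.assoc, bcMap_fst]
        exact liftBc_fst _ _ _
      · rw [Category.assoc, bcMap_w, bcFst_w, ← Category.assoc]
        exact congrArg (· ≫ pr c k) (MorphismProperty.Over.w μ)
    haveI : Nonempty ι := ⟨m⟩
    obtain ⟨l, hkl, hl⟩ := exists_eq_zero hT hc _ (isQcqsObj_bc_map m V hmk hV) s (by
      rw [← res_map_right (T.g k) _ (bcMap_w _ V) μ _ hμ (bcFst_w _ _), hx', map_zero])
    refine (congrArg (fun r : D.obj _ ⟶ colimit D => (r.hom.app (op V)).hom s)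
      (colimit.w D (AsSmall.up.map (homOfLE (show (⟨k, hmk⟩ : Set.Ici m) ≤ ⟨l, le_trans hmk hkl⟩ from hkl)))).symm).trans ?_
    have hz : res _ (S.l hkl) (bcMap (tr Xs hmk) (tr Xs hkl) (tr Xs (hmk.trans hkl)) (tr_comp Xs hmk hkl) V)
        (bcMap_w _ V) s = 0 := by
      rw [← res_map_right (S.l hkl) _ (bcFst_w _ _)
        (liftBc (tr Xs hkl) (bcMap (tr Xs hmk) (tr Xs hkl) (tr Xs (hmk.trans hkl)) (tr_comp Xs hmk hkl) V)
          (bcMap_w _ V)) _ (liftBc_fst _ _ _), hl, map_zero]
    exact (congrArg ((colimit.ι D _).hom.app (op V)).hom hz).trans (map_zero _)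
  · haveI : Nonempty ι := ⟨m⟩
    obtain ⟨k, hmk, s, hs⟩ := exists_res_eq hT hc V hV σ
    let kk : AsSmall.{u + 1} (Set.Ici m) := AsSmall.up.obj ⟨k, hmk⟩
    exact ⟨((colimit.ι D kk).hom.app (op V)).hom s, (hι kk s).trans hs⟩

end Groth.Agent.EtLim8
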