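import Groth.Agent.EtLim8.Morph
import Groth.Agent.EtLim8.AcyclicColim

/-!
# Effacement of systems by coinduced systems of injectives
-/

set_option autoImplicit false
set_option linter.style.haveILetI false
set_option linter.unusedSectionVars false
set_option linter.unusedVariables false
set_option backward.isDefEq.respectTransparency.types false

universe u

open CategoryTheory CategoryTheory.Limits AlgebraicGeometry Opposite

namespace Groth.Agent.EtLim8

theorem hom_ext_push {X Y : Scheme.{u}} (t : Y ⟶ X) {P : Type u} (M : P → EtCoh.Ab Y) {A : EtCoh.Ab X}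
    (f g : A ⟶ (EtCoh.push t).obj (∏ᶜ M))
    (h : ∀ k, f ≫ (EtCoh.push t).map (Pi.π M k) = g ≫ (EtCoh.push t).map (Pi.π M k)) : f = g := by
  apply ((EtCoh.pullPushAdj t).homEquiv _ _).symm.injective
  refine Pi.hom_ext _ _ fun k => ?_
  apply ((EtCoh.pullPushAdj t).homEquiv _ _).injective
  rw [Adjunction.homEquiv_naturality_right, Adjunction.homEquiv_naturality_right, Equiv.apply_symm_apply,
    Equiv.apply_symm_apply]
  exact h k

theorem pushCmp_assoc {A B C D : Scheme.{u}} {t₁ : B ⟶ A} {t₂ : C ⟶ B} {t₃ : D ⟶ C} {t₁₂ : C ⟶ A}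
    {t₂₃ : D ⟶ B} {t : D ⟶ A} (h₁ : t₂ ≫ t₁ = t₁₂) (h₂ : t₃ ≫ t₂ = t₂₃) (h₃ : t₂₃ ≫ t₁ = t)
    (h₄ : t₃ ≫ t₁₂ = t) (K : EtCoh.Ab D) :
    (pushCmp t₁ t₂₃ t h₃ K).hom ≫ (EtCoh.push t₁).map (pushCmp t₂ t₃ t₂₃ h₂ K).hom =
      (pushCmp t₁₂ t₃ t h₄ K).hom ≫ (pushCmp t₁ t₂ t₁₂ h₁ ((EtCoh.push t₃).obj K)).hom := by
  refine Sheaf.hom_ext (NatTrans.ext (funext fun V => AddCommGrpCat.hom_ext (AddMonoidHom.ext fun s => ?_)))
  change K.obj.map (bcCmp t₂ t₃ t₂₃ h₂ ((EtCoh.bc t₁).obj V.unop)).hom.op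
      (K.obj.map (bcCmp t₁ t₂₃ t h₃ V.unop).hom.op s) =
    K.obj.map ((EtCoh.bc t₃).map (bcCmp t₁ t₂ t₁₂ h₁ V.unop).hom).op
      (K.obj.map (bcCmp t₁₂ t₃ t h₄ V.unop).hom.op s)
  rw [← Functor.map_comp_apply, ← Functor.map_comp_apply, ← op_comp, ← op_comp]
  refine congrArg (fun r => (K.obj.map (Quiver.Hom.op r)).hom s) (hom_bc_ext ?_)
  refine (Category.assoc _ _ _).trans ((congrArg (_ ≫ ·) (liftBc_fst _ _ _)).trans ?_)
  refine Eq.trans ?_ (Category.assoc _ _ _).symm
  refine Eq.trans ?_ (congrArg (_ ≫ ·) (liftBc_fst _ _ _)).symm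
  refine (Category.assoc _ _ _).symm.trans ?_
  refine (congrArg (· ≫ bcFst t₁ V.unop) (liftBc_fst _ _ _)).trans ?_
  refine Eq.trans ?_ (Category.assoc _ _ _)
  refine Eq.trans ?_ (congrArg (· ≫ bcFst t₁₂ V.unop)
    (EtCoh.isPullback_bc_map t₃ (bcCmp t₁ t₂ t₁₂ h₁ V.unop).hom).w).symm
  refine (Category.assoc _ _ _).trans (Eq.trans ?_ (Category.assoc _ _ _).symm)
  exact congrArg (_ ≫ ·) (liftBc_fst _ _ _).symm

variable {ι : Type u} [Preorder ι] {Xs : ιᵒᵖ ⥤ Scheme.{u}}

theorem pushCmp_refl {i k : ι} (h : i ≤ k) (K : EtCoh.Ab (Xs.obj (op k))) :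
    (pushCmp (tr Xs (le_refl i)) (tr Xs h) (tr Xs h) (tr_comp Xs (le_refl i) h) K).hom =
      pushId i ((EtCoh.push (tr Xs h)).obj K) := by
  refine Sheaf.hom_ext (NatTrans.ext (funext fun V => AddCommGrpCat.hom_ext (AddMonoidHom.ext fun s => ?_)))
  change K.obj.map (bcCmp (tr Xs (le_refl i)) (tr Xs h) (tr Xs h) (tr_comp Xs (le_refl i) h) V.unop).hom.op s =
    K.obj.map ((EtCoh.bc (tr Xs h)).map _).op s
  refine congrArg (fun r => (K.obj.map (Quiver.Hom.op r)).hom s) (hom_bc_ext ?_)
  refine (liftBc_fst _ _ _).trans ?_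
  let g₀ : (EtCoh.bc (tr Xs (le_refl i))).obj V.unop ⟶ V.unop := MorphismProperty.Over.homMk
    (bcFst (tr Xs (le_refl i)) V.unop)
    ((bcFst_w _ _).trans ((congrArg (_ ≫ ·) (tr_refl Xs i)).trans (Category.comp_id _))) trivial
  exact (EtCoh.isPullback_bc_map (tr Xs h) g₀).w.symm

instance mono_pushId (i : ι) (F : EtCoh.Ab (Xs.obj (op i))) : Mono (pushId i F) := by
  have hmono : ∀ V, Mono ((pushId i F).hom.app V) := fun V => by
    rw [AddCommGrpCat.mono_iff_injective]
    intro s s' hss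
    change F.obj.map _ s = F.obj.map _ s' at hss
    let n : V.unop ⟶ (EtCoh.bc (tr Xs (le_refl i))).obj V.unop :=
      liftBc (tr Xs (le_refl i)) (𝟙 V.unop.left) ((Category.id_comp _).trans
        ((Category.comp_id _).symm.trans (congrArg (_ ≫ ·) (tr_refl Xs i).symm)))
    have e := congrArg (F.obj.map n.op).hom hss
    rw [← Functor.map_comp_apply, ← Functor.map_comp_apply] at e
    have hn : n ≫ (MorphismProperty.Over.homMk (bcFst (tr Xs (le_refl i)) V.unop)
        ((bcFst_w _ _).trans ((congrArg (_ ≫ ·) (tr_refl Xs i)).trans (Category.comp_id _))) trivial :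
          (EtCoh.bc (tr Xs (le_refl i))).obj V.unop ⟶ V.unop) = 𝟙 _ :=
      MorphismProperty.Over.Hom.ext (liftBc_fst _ _ _)
    replace e := ((congrArg (fun r => (F.obj.map r).hom s) (congrArg Quiver.Hom.op hn)).symm.trans e).trans
      (congrArg (fun r => (F.obj.map r).hom s') (congrArg Quiver.Hom.op hn))
    rw [op_id, CategoryTheory.Functor.map_id] at e
    exact e
  haveI := NatTrans.mono_of_mono_app (pushId i F).hom
  exact (sheafToPresheaf _ _).mono_of_mono_map this

variable (S : Sys Xs)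

/-- the factors of the coinduced system -/
noncomputable abbrev coindFactor (i : ι) (k : {k : ι // i ≤ k}) : EtCoh.Ab (Xs.obj (op i)) :=
  (EtCoh.push (tr Xs k.2)).obj (Injective.under (S.F k.1))

/-- transition of the coinduced system -/
noncomputable def coindL {i j : ι} (h : i ≤ j) :
    ∏ᶜ coindFactor S i ⟶ (EtCoh.push (tr Xs h)).obj (∏ᶜ coindFactor S j) :=
  (EtCoh.pullPushAdj (tr Xs h)).homEquiv _ _ (Pi.lift fun k : {k : ι // j ≤ k} =>
    ((EtCoh.pullPushAdj (tr Xs h)).homEquiv _ _).symm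
      (Pi.π (coindFactor S i) ⟨k.1, h.trans k.2⟩ ≫
        (pushCmp (tr Xs h) (tr Xs k.2) (tr Xs (h.trans k.2)) (tr_comp Xs h k.2) _).hom))

theorem coindL_π {i j : ι} (h : i ≤ j) (k : {k : ι // j ≤ k}) :
    coindL S h ≫ (EtCoh.push (tr Xs h)).map (Pi.π (coindFactor S j) k) =
      Pi.π (coindFactor S i) ⟨k.1, h.trans k.2⟩ ≫
        (pushCmp (tr Xs h) (tr Xs k.2) (tr Xs (h.trans k.2)) (tr_comp Xs h k.2) _).hom := by
  rw [coindL, ← Adjunction.homEquiv_naturality_right, Pi.lift_π, Equiv.apply_symm_apply]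

/-- the coinduced system of injectives -/
noncomputable def coind : Sys Xs where
  F i := ∏ᶜ coindFactor S i
  l := fun i j h => coindL S h
  comp i j k hij hjk := by
    rw [compat_iff (tr_comp Xs hij hjk)]
    apply ((EtCoh.pullPushAdj (tr Xs hij)).homEquiv _ _).symm.injective
    refine hom_ext_push _ _ _ _ fun n => ?_
    apply ((EtCoh.pullPushAdj (tr Xs hij)).homEquiv _ _).injective
    rw [Adjunction.homEquiv_naturality_right, Adjunction.homEquiv_naturality_right, Equiv.apply_symm_apply,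
      Equiv.apply_symm_apply, Category.assoc, Category.assoc, ← Functor.map_comp, coindL_π, Functor.map_comp,
      ← Category.assoc, coindL_π, Category.assoc, ← pushCmp_natural, ← Category.assoc (coindL S _), coindL_π,
      Category.assoc, pushCmp_assoc (tr_comp Xs hij hjk) (tr_comp Xs hjk n.2) (tr_comp Xs hij (hjk.trans n.2))
        (tr_comp Xs (hij.trans hjk) n.2)]

theorem coind_isUnital : (coind S).IsUnital := by
  rw [isUnital_iff]
  intro i
  refine hom_ext_push _ _ _ _ fun k => ?_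
  refine (coindL_π S (le_refl i) k).trans ?_
  rw [pushCmp_refl]
  exact (pushId_natural i _).symm

instance injective_coind (i : ι) : Injective ((coind S).F i) :=
  haveI : ∀ k, Injective (coindFactor S i k) := fun k => injective_push (tr Xs k.2) _
  inferInstanceAs (Injective (∏ᶜ coindFactor S i))

/-- the embedding into the coinduced system -/
noncomputable def toCoind : SysHom S (coind S) where
  app i := Pi.lift fun k : {k : ι // i ≤ k} => S.l k.2 ≫ (EtCoh.push (tr Xs k.2)).map (Injective.ι (S.F k.1))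
  comm i j h := by
    refine hom_ext_push _ _ _ _ fun k => ?_
    refine (Category.assoc _ _ _).trans ((congrArg (_ ≫ ·) (coindL_π S h k)).trans ?_)
    refine ((Category.assoc _ _ _).symm.trans (congrArg (· ≫ _) (Pi.lift_π _ _))).trans ?_
    refine Eq.trans ?_ (Category.assoc _ _ _).symm
    refine Eq.trans ?_ (congrArg (S.l h ≫ ·) (Functor.map_comp _ _ _))
    refine Eq.trans ?_ (congrArg (fun r => S.l h ≫ (EtCoh.push (tr Xs h)).map r) (Pi.lift_π _ _)).symm
    rw [Functor.map_comp, Category.assoc, pushCmp_natural,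
      ← Category.assoc, ← (compat_iff (tr_comp Xs h k.2) _ _ _).1 (S.comp h k.2), Category.assoc]

theorem mono_toCoind (hU : S.IsUnital) (i : ι) : Mono ((toCoind S).app i) := by
  have e : (toCoind S).app i ≫ Pi.π (coindFactor S i) ⟨i, le_refl i⟩ =
      Injective.ι (S.F i) ≫ pushId i (Injective.under (S.F i)) := by
    refine (Pi.lift_π _ _).trans ?_
    rw [(isUnital_iff S).1 hU i, pushId_natural]
  haveI : Mono ((toCoind S).app i ≫ Pi.π (coindFactor S i) ⟨i, le_refl i⟩) := e ▸ inferInstance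
  exact mono_of_mono _ (Pi.π (coindFactor S i) ⟨i, le_refl i⟩)

variable {S}

/-- the cokernel of a morphism of systems -/
noncomputable def SysHom.coker {S' : Sys Xs} (η : SysHom S S') : Sys Xs where
  F i := cokernel (η.app i)
  l := fun i j h => cokernel.desc _ (S'.l h ≫ (EtCoh.push (tr Xs h)).map (cokernel.π (η.app j))) (by
    rw [← Category.assoc, η.comm h, Category.assoc, ← Functor.map_comp, cokernel.condition, Functor.map_zero,
      comp_zero])
  comp i j k hij hjk := by
    rw [compat_iff (tr_comp Xs hij hjk), ← cancel_epi (cokernel.π (η.app i))]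
    simp only [cokernel.π_desc_assoc, Category.assoc]
    rw [← Functor.map_comp, cokernel.π_desc, Functor.map_comp, ← Category.assoc (S'.l hij),
      (compat_iff (tr_comp Xs hij hjk) _ _ _).1 (S'.comp hij hjk), Category.assoc, pushCmp_natural]

/-- the projection to the cokernel -/
noncomputable def SysHom.cokerπ {S' : Sys Xs} (η : SysHom S S') : SysHom S' η.coker where
  app i := cokernel.π (η.app i)
  comm i j h := cokernel.π_desc _ _ _

theorem SysHom.coker_isUnital {S' : Sys Xs} (η : SysHom S S') (hU : S'.IsUnital) : η.coker.IsUnital := by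
  rw [isUnital_iff]
  intro i
  refine (cancel_epi (cokernel.π (η.app i))).1 ?_
  refine (cokernel.π_desc _ _ _).trans ?_
  rw [(isUnital_iff S').1 hU i]
  exact pushId_natural i _

end Groth.Agent.EtLim8
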