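import Groth.Agent.EtLim8.Coh
import Groth.Agent.EtAcycLib.Compose

/-!
# Systems whose identity transitions are only idempotent
-/

set_option autoImplicit false
set_option linter.style.haveILetI false
set_option linter.unusedSectionVars false
set_option linter.unusedVariables false
set_option backward.isDefEq.respectTransparency.types false

universe u

open CategoryTheory CategoryTheory.Limits AlgebraicGeometry Opposite Abelian

namespace Groth.Agent.EtLim8

variable {ι : Type u} [Preorder ι] {Xs : ιᵒᵖ ⥤ Scheme.{u}}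

theorem pushCmp_refl_left {Z : Scheme.{u}} {i : ι} (t : Z ⟶ Xs.obj (op i))
    (hw : t ≫ tr Xs (le_refl i) = t) (K : EtCoh.Ab Z) :
    (pushCmp (tr Xs (le_refl i)) t t hw K).hom = pushId i ((EtCoh.push t).obj K) := by
  refine Sheaf.hom_ext (NatTrans.ext (funext fun V => AddCommGrpCat.hom_ext (AddMonoidHom.ext fun s => ?_)))
  change K.obj.map (bcCmp (tr Xs (le_refl i)) t t hw V.unop).hom.op s = K.obj.map ((EtCoh.bc t).map _).op s
  refine congrArg (fun r => (K.obj.map (Quiver.Hom.op r)).hom s) (hom_bc_ext ?_)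
  refine (liftBc_fst _ _ _).trans ?_
  let g₀ : (EtCoh.bc (tr Xs (le_refl i))).obj V.unop ⟶ V.unop := MorphismProperty.Over.homMk
    (bcFst (tr Xs (le_refl i)) V.unop)
    ((bcFst_w _ _).trans ((congrArg (_ ≫ ·) (tr_refl Xs i)).trans (Category.comp_id _))) trivial
  exact (EtCoh.isPullback_bc_map t g₀).w.symm

theorem pushCmp_refl_right {W : Scheme.{u}} {i : ι} (t : Xs.obj (op i) ⟶ W)
    (hw : tr Xs (le_refl i) ≫ t = t) (K : EtCoh.Ab (Xs.obj (op i))) :
    (pushCmp t (tr Xs (le_refl i)) t hw K).hom = (EtCoh.push t).map (pushId i K) := by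
  refine Sheaf.hom_ext (NatTrans.ext (funext fun V => AddCommGrpCat.hom_ext (AddMonoidHom.ext fun s => ?_)))
  change K.obj.map (bcCmp t (tr Xs (le_refl i)) t hw V.unop).hom.op s = K.obj.map _ s
  refine congrArg (fun r => (K.obj.map r).hom s) (congrArg Quiver.Hom.op (hom_bc_ext ?_))
  exact liftBc_fst _ _ _

instance isIso_pushId (i : ι) (F : EtCoh.Ab (Xs.obj (op i))) : IsIso (pushId i F) := by
  have h : ∀ V : (Xs.obj (op i)).Etaleᵒᵖ, IsIso ((pushId i F).hom.app V) := fun V => by
    let g : (EtCoh.bc (tr Xs (le_refl i))).obj V.unop ⟶ V.unop := MorphismProperty.Over.homMk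
      (bcFst (tr Xs (le_refl i)) V.unop)
      ((bcFst_w _ _).trans ((congrArg (_ ≫ ·) (tr_refl Xs i)).trans (Category.comp_id _))) trivial
    have hg : IsIso g := by
      refine ⟨liftBc (tr Xs (le_refl i)) (𝟙 V.unop.left) ((Category.id_comp _).trans
        ((Category.comp_id _).symm.trans (congrArg (_ ≫ ·) (tr_refl Xs i).symm))), hom_bc_ext ?_,
        MorphismProperty.Over.Hom.ext (liftBc_fst _ _ _)⟩
      refine (Category.assoc _ _ _).trans ((congrArg (g.left ≫ ·) (liftBc_fst _ _ _)).trans ?_)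
      exact (Category.comp_id _).trans (Category.id_comp _).symm
    exact inferInstanceAs (IsIso (F.obj.map g.op))
  haveI : IsIso ((sheafToPresheaf _ _).map (pushId i F)) :=
    haveI := h
    NatIso.isIso_of_isIso_app (pushId i F).hom
  exact isIso_of_reflects_iso (pushId i F) (sheafToPresheaf _ _)

variable (S : Sys Xs)

/-- the idempotent given by the identity transition -/
noncomputable def Sys.idem (i : ι) : S.F i ⟶ S.F i := S.l (le_refl i) ≫ inv (pushId i (S.F i))

theorem Sys.idem_pushId (i : ι) : S.idem i ≫ pushId i (S.F i) = S.l (le_refl i) := by simp [Sys.idem]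

theorem Sys.idem_l {i j : ι} (h : i ≤ j) : S.idem i ≫ S.l h = S.l h := by
  have e := (compat_iff (tr_comp Xs (le_refl i) h) _ _ _).1 (S.comp (le_refl i) h)
  rw [pushCmp_refl_left, ← S.idem_pushId, Category.assoc, pushId_natural, ← Category.assoc] at e
  exact (cancel_mono (pushId i _)).1 e

theorem Sys.l_idem {i j : ι} (h : i ≤ j) : S.l h ≫ (EtCoh.push (tr Xs h)).map (S.idem j) = S.l h := by
  have e := (compat_iff (tr_comp Xs h (le_refl j)) _ _ _).1 (S.comp h (le_refl j))
  rw [pushCmp_refl_right, ← S.idem_pushId, Functor.map_comp, ← Category.assoc] at e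
  exact (cancel_mono ((EtCoh.push (tr Xs h)).map (pushId j (S.F j)))).1 e

theorem Sys.idem_idem (i : ι) : S.idem i ≫ S.idem i = S.idem i := by
  conv_lhs => arg 2; rw [Sys.idem]
  rw [← Category.assoc, S.idem_l]
  rfl

/-- the endomorphism `1 - e` of a system -/
noncomputable def Sys.oneSubIdem : SysHom S S where
  app i := 𝟙 _ - S.idem i
  comm i j h := by
    rw [Preadditive.sub_comp, Category.id_comp, S.idem_l, sub_self, Functor.map_sub,
      Preadditive.comp_sub, CategoryTheory.Functor.map_id, Category.comp_id, S.l_idem, sub_self]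

/-- the unital system -/
noncomputable abbrev Sys.unitalize : Sys Xs := S.oneSubIdem.coker

theorem Sys.idem_π (i : ι) : S.idem i ≫ S.oneSubIdem.cokerπ.app i = S.oneSubIdem.cokerπ.app i := by
  have h : (𝟙 _ - S.idem i) ≫ cokernel.π (S.oneSubIdem.app i) = 0 := cokernel.condition (S.oneSubIdem.app i)
  rw [Preadditive.sub_comp, Category.id_comp, sub_eq_zero] at h
  exact h.symm

theorem Sys.unitalize_isUnital : S.unitalize.IsUnital := by
  rw [isUnital_iff]
  intro i
  refine (cancel_epi (cokernel.π (S.oneSubIdem.app i))).1 ?_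
  refine (cokernel.π_desc _ _ _).trans ?_
  rw [← S.idem_pushId, Category.assoc, pushId_natural, ← Category.assoc]
  exact congrArg (· ≫ pushId i _) (S.idem_π i)

/-- the section of the projection -/
noncomputable def Sys.unitalizeSection (i : ι) : S.unitalize.F i ⟶ S.F i :=
  cokernel.desc _ (S.idem i) (by
    change (𝟙 _ - S.idem i) ≫ S.idem i = 0
    rw [Preadditive.sub_comp, Category.id_comp, S.idem_idem, sub_self])

theorem Sys.π_unitalizeSection (i : ι) : S.oneSubIdem.cokerπ.app i ≫ S.unitalizeSection i = S.idem i :=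
  cokernel.π_desc _ _ _

theorem Sys.unitalizeSection_π (i : ι) : S.unitalizeSection i ≫ S.oneSubIdem.cokerπ.app i = 𝟙 _ := by
  refine (cancel_epi (cokernel.π (S.oneSubIdem.app i))).1 ?_
  refine (Category.assoc _ _ _).symm.trans ?_
  refine ((congrArg (· ≫ _) (S.π_unitalizeSection i)).trans (S.idem_π i)).trans ?_
  exact (Category.comp_id _).symm

variable [IsDirected ι (· ≤ ·)] [Nonempty ι] {c : Cone Xs}

theorem Diag.pull_idem (D : Diag S c) (i : ι) : (EtCoh.pull (pr c i)).map (S.idem i) = 𝟙 _ := by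
  have e := (compat_iff (pr_tr c (le_refl i)) _ _ _).1 (D.compat (le_refl i))
  rw [pushCmp_refl_left, ← S.idem_pushId, Category.assoc, pushId_natural, ← Category.assoc] at e
  have e2 := (cancel_mono (pushId i _)).1 e
  rw [← Adjunction.homEquiv_naturality_left, Equiv.apply_eq_iff_eq,
    Subsingleton.elim (homOfLE (le_refl i)) (𝟙 i), CategoryTheory.Functor.map_id, Category.comp_id] at e2
  exact (cancel_mono (D.ψ i).hom).1 (e2.trans (Category.id_comp _).symm)

theorem Diag.isIso_pull_π (D : Diag S c) (i : ι) :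
    IsIso ((EtCoh.pull (pr c i)).map (S.oneSubIdem.cokerπ.app i)) :=
  ⟨(EtCoh.pull (pr c i)).map (S.unitalizeSection i), by
    rw [← Functor.map_comp, S.π_unitalizeSection, D.pull_idem], by
    rw [← Functor.map_comp, S.unitalizeSection_π, CategoryTheory.Functor.map_id]⟩

theorem Diag.map_π (D : Diag S c) {i j : ι} (h : i ≤ j) :
    (D.ψ i).hom ≫ D.G.map (homOfLE h) ≫ (D.ψ j).inv ≫ (EtCoh.pull (pr c j)).map (S.oneSubIdem.cokerπ.app j) =
      (EtCoh.pull (pr c i)).map (S.oneSubIdem.cokerπ.app i) ≫ S.unitalize.pullMap c h := by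
  let π := S.oneSubIdem.cokerπ
  apply ((EtCoh.pullPushAdj (pr c i)).homEquiv _ _).injective
  refine Compat.unique (pr_tr c h) (l₁ := S.l h)
    (l₂ := (EtCoh.pullPushAdj (pr c j)).homEquiv _ _ ((EtCoh.pull (pr c j)).map (π.app j))) ?_ ?_
  · intro V W W' a w b w' e we hbe s
    have h1 : (EtCoh.pull (pr c j)).map (π.app j) =
        (D.ψ j).hom ≫ (D.ψ j).inv ≫ (EtCoh.pull (pr c j)).map (π.app j) := (Iso.hom_inv_id_assoc _ _).symm
    rw [← Category.assoc (D.ψ i).hom, Adjunction.homEquiv_naturality_right, res_comp_push_map]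
    refine (congrArg (fun r => res _ (((EtCoh.pullPushAdj (pr c j)).homEquiv _ _) r) b w'
      (res _ (S.l h) a w s)) h1).trans ?_
    rw [Adjunction.homEquiv_naturality_right, res_comp_push_map, D.compat h V W W' a w b w' e we hbe s]
  · intro V W W' a w b w' e we hbe s
    have h2 : ((π.app j).hom.app (op W)).hom (res _ (S.l h) a w s) =
        res _ (S.unitalize.l h) a w (((π.app i).hom.app (op V)).hom s) := by
      rw [← res_comp_push_map, ← π.comm h, res_comp_left]
    rw [← Category.comp_id ((EtCoh.pull (pr c j)).map (π.app j)), Adjunction.homEquiv_naturality_left,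
      Adjunction.homEquiv_id, res_comp_left, h2, Adjunction.homEquiv_naturality_left, res_comp_left]
    exact S.unitalize.compat_pullMap (c := c) h V W W' a w b w' e we hbe _

/-- a diagram of a system is the diagram of its unitalization -/
noncomputable def Diag.isoUnitalize (D : Diag S c) : D.G ≅ (S.unitalize.diag c S.unitalize_isUnital).G :=
  NatIso.ofComponents (fun i => (D.ψ i).symm ≪≫
      @asIso _ _ _ _ ((EtCoh.pull (pr c i)).map (S.oneSubIdem.cokerπ.app i)) (D.isIso_pull_π S i)) (fun {i j} h => by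
    change D.G.map (homOfLE (leOfHom h)) ≫ (D.ψ j).inv ≫ (EtCoh.pull (pr c j)).map (S.oneSubIdem.cokerπ.app j) =
      ((D.ψ i).inv ≫ (EtCoh.pull (pr c i)).map (S.oneSubIdem.cokerπ.app i)) ≫ S.unitalize.pullMap c (leOfHom h)
    rw [Category.assoc, ← D.map_π S (leOfHom h), Iso.inv_hom_id_assoc])

variable [hA : ∀ {a b : ιᵒᵖ} (h : a ⟶ b), IsAffineHom (Xs.map h)]

attribute [local instance] preservesFiniteLimits_pull

set_option maxHeartbeats 800000 in
/-- cohomology of the limit is the colimit, for any system with a diagram -/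
theorem Diag.comm (hc : IsLimit c) (hqc : ∀ a, CompactSpace ↥(Xs.obj a))
    (hqs : ∀ a, QuasiSeparatedSpace ↥(Xs.obj a)) (D : Diag S c) (p : ℕ) :
    (∀ ξ : EtCoh.H c.pt (colimit D.G) p, ∃ (j : ι) (ξj : EtCoh.H (Xs.obj (op j)) (S.F j) p),
        EtLim.HpullThen (pr c j) (S.F j) ((D.ψ j).hom ≫ colimit.ι D.G j) p ξj = ξ) ∧
      ∀ (j : ι) (ξj : EtCoh.H (Xs.obj (op j)) (S.F j) p),
        EtLim.HpullThen (pr c j) (S.F j) ((D.ψ j).hom ≫ colimit.ι D.G j) p ξj = 0 →
          ∃ (k : ι) (h : j ≤ k), S.trH h p ξj = 0 := by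
  have hU := S.unitalize_isUnital
  have H := Sys.comm hc hqc hqs p S.unitalize hU
  let β := colim.mapIso (D.isoUnitalize S)
  let π := S.oneSubIdem.cokerπ
  have key : ∀ (j : ι) (ξ : EtCoh.H (Xs.obj (op j)) (S.F j) p),
      S.unitalize.colimH c hU j p (ξ.comp (Ext.mk₀ (π.app j)) (add_zero p)) =
        (EtLim.HpullThen (pr c j) (S.F j) ((D.ψ j).hom ≫ colimit.ι D.G j) p ξ).comp
          (Ext.mk₀ β.hom) (add_zero p) := by
    intro j ξ
    refine (HpullThen_mk₀ (pr c j) (π.app j) _ p ξ).trans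
      (Eq.trans ?_ (HpullThen_comp_mk₀ (pr c j) _ _ p ξ).symm)
    refine congrArg (fun r => EtLim.HpullThen (pr c j) (S.F j) r p ξ) ?_
    rw [Category.assoc]
    refine (Eq.trans ?_ (congrArg ((D.ψ j).hom ≫ ·) (colimit.ι_map (D.isoUnitalize S).hom j)).symm)
    change _ = (D.ψ j).hom ≫ ((D.ψ j).inv ≫ (EtCoh.pull (pr c j)).map (π.app j)) ≫ _
    rw [Category.assoc, Iso.hom_inv_id_assoc]
  refine ⟨fun ξ => ?_, fun j ξj hξ => ?_⟩
  · obtain ⟨j, ξ', hξ'⟩ := H.surj (ξ.comp (Ext.mk₀ β.hom) (add_zero p))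
    refine ⟨j, ξ'.comp (Ext.mk₀ (S.unitalizeSection j)) (add_zero p),
      (EtAcycLib.bijective_comp_mk₀ β).1 ((key j _).symm.trans (Eq.trans ?_ hξ'))⟩
    rw [Ext.comp_assoc_of_third_deg_zero, Ext.mk₀_comp_mk₀, S.unitalizeSection_π, Ext.comp_mk₀_id]
  · have h0 : S.unitalize.colimH c hU j p (ξj.comp (Ext.mk₀ (π.app j)) (add_zero p)) = 0 := by
      rw [key, hξ, Ext.zero_comp]
    obtain ⟨k, hjk, hk⟩ := H.inj j _ h0
    refine ⟨k, hjk, ?_⟩
    have e : (S.trH hjk p ξj).comp (Ext.mk₀ (π.app k)) (add_zero p) = 0 := (π.trH_mk₀ hjk p ξj).symm.trans hk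
    have e1 : S.trH hjk p ξj = (S.trH hjk p ξj).comp (Ext.mk₀ (S.idem k)) (add_zero p) := by
      refine Eq.trans ?_ (HpullThen_comp_mk₀ (tr Xs hjk) _ _ p ξj).symm
      rw [← Adjunction.homEquiv_naturality_right_symm, S.l_idem]
      rfl
    rw [e1, ← S.π_unitalizeSection, ← Ext.mk₀_comp_mk₀, ← Ext.comp_assoc_of_third_deg_zero, e, Ext.zero_comp]

end Groth.Agent.EtLim8
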