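import Groth.Agent.EtLim8.Limit

/-!
# Sections of the colimit over quasi-compact quasi-separated étale objects
-/

set_option autoImplicit false
set_option linter.style.haveILetI false
set_option linter.unusedSectionVars false
set_option linter.unusedVariables false
set_option backward.isDefEq.respectTransparency.types false

universe u

open CategoryTheory CategoryTheory.Limits AlgebraicGeometry Opposite

namespace Groth.Agent.EtLim8

open EtFound

theorem bc_hom_ext {X Y : Scheme.{u}} {t : Y ⟶ X} {V : X.Etale} {P : Scheme.{u}}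
    {p q : P ⟶ ((EtCoh.bc t).obj V).left} (h₁ : p ≫ bcFst t V = q ≫ bcFst t V)
    (h₂ : p ≫ ((EtCoh.bc t).obj V).hom = q ≫ ((EtCoh.bc t).obj V).hom) : p = q :=
  pullback.hom_ext h₁ h₂

theorem mem_nullLocus_of_map {X : Scheme.{u}} {F : EtCoh.Ab X} {V W : X.Etale} (g : W ⟶ V)
    (s : F.obj.obj (op V)) {x : W.left} (hx : x ∈ nullLocus F W (F.obj.map g.op s)) :
    g.left.base x ∈ nullLocus F V s := by
  obtain ⟨U, h, z, hz, hh⟩ := hx
  refine ⟨U, h ≫ g, z, ?_, ?_⟩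
  · rw [← hz]
    exact Scheme.Hom.comp_apply h.left g.left z
  · rw [op_comp, Functor.map_comp_apply, hh]

theorem exists_ge_all {ι : Type u} [Preorder ι] [IsDirected ι (· ≤ ·)] (i : ι) {α : Type*} [Finite α] (f : α → ι) :
    ∃ j, i ≤ j ∧ ∀ a, f a ≤ j := by
  haveI : Nonempty ι := ⟨i⟩
  obtain ⟨j, hj⟩ := Finite.exists_le (fun o : Option α => o.elim i f)
  exact ⟨j, hj none, fun a => hj (some a)⟩

variable {ι : Type u} [Preorder ι] [IsDirected ι (· ≤ ·)] {Xs : ιᵒᵖ ⥤ Scheme.{u}} {c : Cone Xs}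
  [hA : ∀ {a b : ιᵒᵖ} (h : a ⟶ b), IsAffineHom (Xs.map h)]
  {S : Sys Xs} {T : Target S c}

/-- a section at a stage vanishing in the colimit vanishes at a later stage -/
theorem exists_eq_zero (hT : T.IsColim) (hc : IsLimit c) {i : ι} (V : (Xs.obj (op i)).Etale)
    (hV : IsQcqsObj V) (s : (S.F i).obj.obj (op V))
    (h : res _ (T.g i) (bcFst (pr c i) V) (bcFst_w _ V) s = 0) :
    ∃ (j : ι) (hij : i ≤ j), res _ (S.l hij) (bcFst (tr Xs hij) V) (bcFst_w _ V) s = 0 := by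
  haveI : Nonempty ι := ⟨i⟩
  let π : ∀ {j : ι} (hij : i ≤ j), ((EtCoh.bc (pr c i)).obj V).left ⟶ ((EtCoh.bc (tr Xs hij)).obj V).left :=
    fun {j} hij => bcMap (tr Xs hij) (pr c j) (pr c i) (pr_tr c hij) V
  let N : ∀ {j : ι} (hij : i ≤ j), Set ((EtCoh.bc (tr Xs hij)).obj V).left :=
    fun {j} hij => nullLocus (S.F j) _ (res _ (S.l hij) (bcFst (tr Xs hij) V) (bcFst_w _ V) s)
  have hmono : ∀ {j k : ι} (hij : i ≤ j) (hjk : j ≤ k) (y : ((EtCoh.bc (tr Xs (hij.trans hjk))).obj V).left),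
      (bcMap (tr Xs hij) (tr Xs hjk) (tr Xs (hij.trans hjk)) (tr_comp Xs hij hjk) V).base y ∈ N hij →
        y ∈ N (hij.trans hjk) := by
    intro j k hij hjk y hy
    have h1 := res_mem_nullLocus (S.l hjk) _ (bcMap_w (tr_comp Xs hij hjk) V) _ hy
    rwa [S.comp hij hjk _ _ _ _ _ _ _ _ (bcFst_w _ V) (bcMap_fst _ V)] at h1
  have hloc : ∀ x, ∃ (j : ι) (hij : i ≤ j), (π hij).base x ∈ N hij := by
    intro x
    obtain ⟨j, hij, W₁, b, wb, e, we, hbe, hb⟩ := hT.inj i V _ _ _ s h x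
    refine ⟨j, hij, ?_⟩
    have e1 : res _ (S.l hij) e we s = (S.F j).obj.map (liftBc (tr Xs hij) e we).op
        (res _ (S.l hij) (bcFst (tr Xs hij) V) (bcFst_w _ V) s) :=
      (res_map_right (S.l hij) _ _ _ e (liftBc_fst _ _ _) we s).symm
    rw [e1] at hb
    have e2 : b ≫ (liftBc (tr Xs hij) e we).left = π hij := by
      refine bc_hom_ext ?_ ?_
      · rw [Category.assoc, liftBc_fst, hbe, bcMap_fst]
      · rw [Category.assoc, bcMap_w]
        exact (congrArg (b ≫ ·) (MorphismProperty.Over.w (liftBc (tr Xs hij) e we))).trans wb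
    have := mem_nullLocus_of_map _ _ hb
    rwa [← Scheme.Hom.comp_apply, e2] at this
  choose j hij hx using hloc
  haveI : CompactSpace ↥((EtCoh.bc (pr c i)).obj V).left := (isQcqsObj_bc_pr i V hc hV).1
  obtain ⟨t, ht⟩ := isCompact_univ.elim_finite_subcover (fun x => (π (hij x)).base ⁻¹' N (hij x))
    (fun x => (isOpen_nullLocus _ _ _).preimage (π (hij x)).continuous)
    (fun x _ => Set.mem_iUnion.2 ⟨x, hx x⟩)
  obtain ⟨k, hik, hk⟩ := exists_ge_all i (fun x : t => j x.1)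
  have hall : ∀ x, (π hik).base x ∈ N hik := by
    intro x
    obtain ⟨y, hy, hyx⟩ := Set.mem_iUnion₂.1 (ht (Set.mem_univ x))
    refine hmono (hij y) (hk ⟨y, hy⟩) _ ?_
    rw [← Scheme.Hom.comp_apply]
    have e : π hik ≫ bcMap (tr Xs (hij y)) (tr Xs (hk ⟨y, hy⟩)) (tr Xs hik) (tr_comp Xs _ _) V = π (hij y) :=
      bcMap_bcMap _ V _ (pr_tr c _) _
    rw [e]
    exact hyx
  obtain ⟨m, hkm, hm⟩ := exists_stage_top k ((EtCoh.bc (tr Xs hik)).obj V) hc (isQcqsObj_bc_map i V hik hV)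
    ⟨N hik, isOpen_nullLocus _ _ _⟩ (fun x => by
      let q : ((EtCoh.bc (pr c k)).obj ((EtCoh.bc (tr Xs hik)).obj V)).left ⟶ ((EtCoh.bc (pr c i)).obj V).left :=
        pullback.lift (bcFst (pr c k) _ ≫ bcFst (tr Xs hik) V)
          ((EtCoh.bc (pr c k)).obj ((EtCoh.bc (tr Xs hik)).obj V)).hom
          (by rw [Category.assoc, bcFst_w, ← Category.assoc, bcFst_w, Category.assoc, pr_tr])
      have e : q ≫ π hik = bcFst (pr c k) ((EtCoh.bc (tr Xs hik)).obj V) := by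
        refine bc_hom_ext ?_ ?_
        · rw [Category.assoc, bcMap_fst]
          exact pullback.lift_fst _ _ _
        · rw [Category.assoc, bcMap_w, bcFst_w]
          exact (Category.assoc _ _ _).symm.trans (congrArg (· ≫ pr c k) (pullback.lift_snd _ _ _))
      rw [← e, Scheme.Hom.comp_apply]
      exact hall _)
  refine ⟨m, hik.trans hkm, eq_zero_of_nullLocus fun y => hmono hik hkm y ?_⟩
  let r : ((EtCoh.bc (tr Xs (hik.trans hkm))).obj V).left ⟶
      ((EtCoh.bc (tr Xs hkm)).obj ((EtCoh.bc (tr Xs hik)).obj V)).left :=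
    pullback.lift (bcMap (tr Xs hik) (tr Xs hkm) _ (tr_comp Xs hik hkm) V)
      ((EtCoh.bc (tr Xs (hik.trans hkm))).obj V).hom (bcMap_w _ V)
  have e : r ≫ bcFst (tr Xs hkm) _ = bcMap (tr Xs hik) (tr Xs hkm) _ (tr_comp Xs hik hkm) V :=
    pullback.lift_fst _ _ _
  rw [← e, Scheme.Hom.comp_apply]
  exact hm (r.base y)

set_option maxHeartbeats 1600000 in
/-- sections at a stage, locally on the limit -/
theorem exists_local (hT : T.IsColim) (hc : IsLimit c) {i : ι} (V : (Xs.obj (op i)).Etale)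
    (σ : T.G.obj.obj (op ((EtCoh.bc (pr c i)).obj V))) (x : ((EtCoh.bc (pr c i)).obj V).left) :
    ∃ (k : ι) (hik : i ≤ k) (A : (Xs.obj (op k)).Etale) (q : A ⟶ (EtCoh.bc (tr Xs hik)).obj V)
      (s : (S.F k).obj.obj (op A)), IsQcqsObj A ∧
      (bcMap (tr Xs hik) (pr c k) (pr c i) (pr_tr c hik) V).base x ∈ Set.range q.left.base ∧
      ∀ (W : c.pt.Etale) (g : W ⟶ (EtCoh.bc (pr c i)).obj V) (a : W.left ⟶ A.left)
        (w : a ≫ A.hom = W.hom ≫ pr c k),
        a ≫ q.left = g.left ≫ bcMap (tr Xs hik) (pr c k) (pr c i) (pr_tr c hik) V →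
          res _ (T.g k) a w s = T.G.obj.map g.op σ := by
  haveI : Nonempty ι := ⟨i⟩
  obtain ⟨W', q₀, y, hy, j, U, a, wa, s₀, hs₀⟩ := hT.surj _ σ x
  obtain ⟨k, hik, hjk⟩ := exists_ge_ge i j
  let U' := (EtCoh.bc (tr Xs hjk)).obj U
  let V' := (EtCoh.bc (tr Xs hik)).obj V
  let s₁ : (S.F k).obj.obj (op U') := res _ (S.l hjk) (bcFst (tr Xs hjk) U) (bcFst_w _ U) s₀
  let a₁ : W'.left ⟶ U'.left := pullback.lift a (W'.hom ≫ pr c k) (by rw [Category.assoc, pr_tr]; exact wa)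
  have ha₁ : a₁ ≫ bcFst (tr Xs hjk) U = a := pullback.lift_fst _ _ _
  have wa₁ : a₁ ≫ U'.hom = W'.hom ≫ pr c k := pullback.lift_snd _ _ _
  haveI : AlgebraicGeometry.Etale U'.hom := U'.prop
  haveI : AlgebraicGeometry.Etale V'.hom := V'.prop
  haveI : AlgebraicGeometry.Etale (pullback.fst U'.hom V'.hom) := MorphismProperty.pullback_fst _ _ V'.prop
  let P : (Xs.obj (op k)).Etale := Scheme.Etale.mk (pullback.fst U'.hom V'.hom ≫ U'.hom)
  let p₁ : P ⟶ U' := MorphismProperty.Over.homMk (pullback.fst U'.hom V'.hom) rfl trivial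
  let p₂ : P ⟶ V' := MorphismProperty.Over.homMk (pullback.snd U'.hom V'.hom) pullback.condition.symm trivial
  let P' := (EtCoh.bc (pr c k)).obj P
  let μ : P'.left ⟶ V.left := (bcFst (pr c k) P ≫ p₂.left) ≫ bcFst (tr Xs hik) V
  have wμ : μ ≫ V.hom = P'.hom ≫ pr c i := by
    simp only [μ, Category.assoc]
    rw [bcFst_w, ← pr_tr c hik]
    refine (congrArg (bcFst (pr c k) P ≫ ·) ((Category.assoc _ _ _).symm.trans
      (congrArg (· ≫ tr Xs hik) (MorphismProperty.Over.w p₂)))).trans ?_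
    exact (Category.assoc _ _ _).symm.trans ((congrArg (· ≫ tr Xs hik) (bcFst_w _ P)).trans (Category.assoc _ _ _))
  let m₂ : P' ⟶ (EtCoh.bc (pr c i)).obj V := liftBc (pr c i) μ wμ
  let d := res _ (T.g k) (bcFst (pr c k) P) (bcFst_w _ P) ((S.F k).obj.map p₁.op s₁) - T.G.obj.map m₂.op σ
  let b : W'.left ⟶ P.left := pullback.lift a₁ (q₀.left ≫ bcMap (tr Xs hik) (pr c k) (pr c i) (pr_tr c hik) V) (by
    refine wa₁.trans ?_
    rw [Category.assoc]
    refine Eq.trans ?_ (congrArg (q₀.left ≫ ·) (bcMap_w (pr_tr c hik) V)).symm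
    rw [← Category.assoc]
    exact (congrArg (· ≫ pr c k) (MorphismProperty.Over.w q₀)).symm)
  have hb₁ : b ≫ p₁.left = a₁ := pullback.lift_fst _ _ _
  have hb₂ : b ≫ p₂.left = q₀.left ≫ bcMap (tr Xs hik) (pr c k) (pr c i) (pr_tr c hik) V := pullback.lift_snd _ _ _
  have wb : b ≫ P.hom = W'.hom ≫ pr c k := by
    refine Eq.trans ?_ wa₁
    exact (congrArg (b ≫ ·) (MorphismProperty.Over.w p₁).symm).trans ((Category.assoc _ _ _).symm.trans
      (congrArg (· ≫ U'.hom) hb₁))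
  let e : W' ⟶ P' := liftBc (pr c k) b wb
  have hem : e ≫ m₂ = q₀ := by
    refine hom_bc_ext ?_
    refine (Category.assoc _ _ _).trans ((congrArg (e.left ≫ ·) (liftBc_fst _ _ _)).trans ?_)
    simp only [μ, ← Category.assoc]
    erw [liftBc_fst, hb₂]
    rw [Category.assoc, bcMap_fst]
  have hde : T.G.obj.map e.op d = 0 := by
    rw [map_sub, sub_eq_zero, ← Functor.map_comp_apply, ← op_comp, hem, ← hs₀,
      res_map_right (T.g k) _ _ e b (liftBc_fst _ _ _) wb, res_map_left (T.g k) b wb p₁ a₁ hb₁ wa₁]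
    exact T.comp hjk U U' W' _ _ a₁ wa₁ a wa ha₁ s₀
  let O : P'.left.Opens := ⟨nullLocus T.G P' d, isOpen_nullLocus _ _ _⟩
  have hey : e.left.base y ∈ O := ⟨W', e, y, rfl, hde⟩
  obtain ⟨l, hkl, A, hA', hyA, hAO⟩ := exists_affine_nhd k P hc O (e.left.base y) hey
  let P'' := (EtCoh.bc (tr Xs hkl)).obj P
  haveI : AlgebraicGeometry.Etale P''.hom := P''.prop
  let A' : (Xs.obj (op l)).Etale := Scheme.Etale.mk (A.ι ≫ P''.hom)
  let η : A' ⟶ P'' := MorphismProperty.Over.homMk A.ι rfl trivial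
  let ν : A'.left ⟶ V.left := ((η.left ≫ bcFst (tr Xs hkl) P) ≫ p₂.left) ≫ bcFst (tr Xs hik) V
  have wν : ν ≫ V.hom = A'.hom ≫ tr Xs (hik.trans hkl) := by
    simp only [ν, Category.assoc]
    rw [bcFst_w, ← tr_comp Xs hik hkl]
    refine (congrArg (fun r => η.left ≫ bcFst (tr Xs hkl) P ≫ r) ((Category.assoc _ _ _).symm.trans
      (congrArg (· ≫ tr Xs hik) (MorphismProperty.Over.w p₂)))).trans ?_
    refine (congrArg (η.left ≫ ·) ((Category.assoc _ _ _).symm.trans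
      (congrArg (· ≫ tr Xs hik) (bcFst_w _ P)))).trans ?_
    refine (congrArg (η.left ≫ ·) (Category.assoc _ _ _)).trans ?_
    exact (Category.assoc _ _ _).symm.trans (congrArg (· ≫ _) (MorphismProperty.Over.w η))
  let q : A' ⟶ (EtCoh.bc (tr Xs (hik.trans hkl))).obj V := liftBc (tr Xs (hik.trans hkl)) ν wν
  have wη : (η.left ≫ bcFst (tr Xs hkl) P) ≫ P.hom = A'.hom ≫ tr Xs hkl := by
    rw [Category.assoc, bcFst_w, ← Category.assoc]
    exact congrArg (· ≫ _) (MorphismProperty.Over.w η)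
  refine ⟨l, hik.trans hkl, A', q, res _ (S.l hkl) (η.left ≫ bcFst (tr Xs hkl) P) wη
    ((S.F k).obj.map p₁.op s₁), ?_, ?_, ?_⟩
  · haveI : IsAffine A'.left := hA'
    exact isQcqsObj_of_isAffine _
  · refine ⟨(⟨_, hyA⟩ : A), ?_⟩
    have e1 : (η.left).base (⟨_, hyA⟩ : A) =
        (bcMap (tr Xs hkl) (pr c l) (pr c k) (pr_tr c hkl) P).base (e.left.base y) := rfl
    have wν' : ((bcFst (tr Xs hkl) P ≫ p₂.left) ≫ bcFst (tr Xs hik) V) ≫ V.hom =
        P''.hom ≫ tr Xs (hik.trans hkl) := by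
      simp only [Category.assoc]
      rw [bcFst_w, ← tr_comp Xs hik hkl]
      refine (congrArg (fun r => bcFst (tr Xs hkl) P ≫ r) ((Category.assoc _ _ _).symm.trans
        (congrArg (· ≫ tr Xs hik) (MorphismProperty.Over.w p₂)))).trans ?_
      exact (Category.assoc _ _ _).symm.trans ((congrArg (· ≫ tr Xs hik) (bcFst_w _ P)).trans (Category.assoc _ _ _))
    let qq : P'' ⟶ (EtCoh.bc (tr Xs (hik.trans hkl))).obj V := liftBc (tr Xs (hik.trans hkl)) _ wν'
    have e2 : q.left = η.left ≫ qq.left := by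
      refine congrArg (fun r => CommaMorphism.left r.toCommaMorphism) (hom_bc_ext (q := η ≫ qq) ?_)
      refine (liftBc_fst _ _ _).trans (Eq.trans ?_ (Category.assoc _ _ _).symm)
      simp only [ν, qq, liftBc_fst, Category.assoc]
    have e3 : ((e.left ≫ bcMap (tr Xs hkl) (pr c l) (pr c k) (pr_tr c hkl) P) ≫ qq.left) =
        q₀.left ≫ bcMap (tr Xs (hik.trans hkl)) (pr c l) (pr c i) (pr_tr c _) V := by
      refine bc_hom_ext ?_ ?_
      · simp only [qq, Category.assoc, liftBc_fst, bcMap_fst, bcMap_fst_assoc]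
        erw [liftBc_fst_assoc, ← Category.assoc, hb₂]
        rw [Category.assoc, bcMap_fst]
      · simp only [Category.assoc]
        refine (congrArg (fun r => e.left ≫ bcMap (tr Xs hkl) (pr c l) (pr c k) (pr_tr c hkl) P ≫ r)
          (MorphismProperty.Over.w qq)).trans ?_
        rw [bcMap_w, bcMap_w]
        refine (Category.assoc _ _ _).symm.trans ((congrArg (· ≫ pr c l) (MorphismProperty.Over.w e)).trans ?_)
        refine Eq.trans ?_ (Category.assoc _ _ _)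
        exact congrArg (· ≫ pr c l) (MorphismProperty.Over.w q₀).symm
    rw [e2, Scheme.Hom.comp_apply, e1, ← Scheme.Hom.comp_apply, ← Scheme.Hom.comp_apply, (Category.assoc _ _ _).symm.trans e3,
      Scheme.Hom.comp_apply, hy]
  · intro W g a' wa' hga
    have wr : ((a' ≫ η.left) ≫ bcFst (tr Xs hkl) P) ≫ P.hom = W.hom ≫ pr c k := by
      rw [Category.assoc, Category.assoc, ← Category.assoc η.left, wη, ← Category.assoc, wa',
        Category.assoc, pr_tr]
    let r : W ⟶ P' := liftBc (pr c k) ((a' ≫ η.left) ≫ bcFst (tr Xs hkl) P) wr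
    have hrg : r ≫ m₂ = g := by
      refine hom_bc_ext ?_
      refine (Category.assoc _ _ _).trans ((congrArg (r.left ≫ ·) (liftBc_fst _ _ _)).trans ?_)
      simp only [μ, ← Category.assoc]
      erw [liftBc_fst]
      have e4 : ν = q.left ≫ bcFst (tr Xs (hik.trans hkl)) V := (liftBc_fst _ _ _).symm
      simp only [ν, Category.assoc] at e4 ⊢
      rw [e4, ← Category.assoc, hga, Category.assoc, bcMap_fst]
    have hrO : ∀ z, r.left.base z ∈ O := by
      intro z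
      refine hAO _ ?_
      have e5 : r.left ≫ bcMap (tr Xs hkl) (pr c l) (pr c k) (pr_tr c hkl) P = a' ≫ η.left := by
        refine bc_hom_ext ?_ ?_
        · rw [Category.assoc, bcMap_fst]
          exact liftBc_fst _ _ _
        · rw [Category.assoc, bcMap_w, Category.assoc]
          refine (Category.assoc _ _ _).symm.trans ((congrArg (· ≫ pr c l) (MorphismProperty.Over.w r)).trans ?_)
          refine wa'.symm.trans ?_
          exact (congrArg (a' ≫ ·) (MorphismProperty.Over.w η)).symm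
      rw [← Scheme.Hom.comp_apply, e5, Scheme.Hom.comp_apply]
      exact (a'.base z).2
    have hd0 : T.G.obj.map r.op d = 0 := eq_zero_of_nullLocus fun z => map_mem_nullLocus r d (hrO z)
    rw [map_sub, sub_eq_zero, ← Functor.map_comp_apply, ← op_comp, hrg,
      res_map_right (T.g k) _ _ r _ (liftBc_fst _ _ _) wr] at hd0
    rw [← hd0]
    exact T.comp hkl P A' W _ wη a' wa' _ wr (Category.assoc _ _ _).symm _

end Groth.Agent.EtLim8

namespace Groth.Agent.EtLim8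

open EtFound

variable {ι : Type u} [Preorder ι] [IsDirected ι (· ≤ ·)] {Xs : ιᵒᵖ ⥤ Scheme.{u}} {c : Cone Xs}
  [hA : ∀ {a b : ιᵒᵖ} (h : a ⟶ b), IsAffineHom (Xs.map h)]
  {S : Sys Xs} {T : Target S c}

/-- the base change of a quasi-compact quasi-separated piece to a later stage -/
theorem exists_qcqs_pullback {j k : ι} (hjk : j ≤ k) {V A : (Xs.obj (op j)).Etale} {B : (Xs.obj (op k)).Etale}
    (q : A ⟶ V) (a : B.left ⟶ V.left) (w : a ≫ V.hom = B.hom ≫ tr Xs hjk)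
    (hA : IsQcqsObj A) (hV : IsQcqsObj V) (hB : IsQcqsObj B) :
    ∃ (Q : (Xs.obj (op k)).Etale) (p : Q ⟶ B) (b : Q.left ⟶ A.left),
      b ≫ A.hom = Q.hom ≫ tr Xs hjk ∧ IsPullback b p.left q.left a ∧ IsQcqsObj Q := by
  obtain ⟨Q, p, b, hb, hQ⟩ := exists_pullback_over (tr Xs hjk) q a w
  obtain ⟨hA₁, hA₂⟩ := hA
  obtain ⟨hV₁, hV₂⟩ := hV
  obtain ⟨hB₁, hB₂⟩ := hB
  haveI : QuasiCompact q.left := quasiCompact_of_compactSpace _
  haveI : QuasiSeparated q.left := QuasiSeparated.of_quasiSeparatedSpace _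
  haveI : QuasiCompact p.left := MorphismProperty.of_isPullback (P := @QuasiCompact) hQ inferInstance
  haveI : QuasiSeparated p.left := MorphismProperty.of_isPullback (P := @QuasiSeparated) hQ inferInstance
  exact ⟨Q, p, b, hb, hQ,
    QuasiCompact.compactSpace_of_compactSpace p.left, quasiSeparatedSpace_of_quasiSeparated p.left⟩

set_option maxHeartbeats 1600000 in
/-- every section of the colimit over a quasi-compact quasi-separated object comes from a stage -/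
theorem exists_res_eq (hT : T.IsColim) (hc : IsLimit c) {i : ι} (V : (Xs.obj (op i)).Etale) (hV : IsQcqsObj V)
    (σ : T.G.obj.obj (op ((EtCoh.bc (pr c i)).obj V))) :
    ∃ (j : ι) (hij : i ≤ j) (s : (S.F j).obj.obj (op ((EtCoh.bc (tr Xs hij)).obj V))),
      res _ (T.g j) (bcMap (tr Xs hij) (pr c j) (pr c i) (pr_tr c hij) V) (bcMap_w _ V) s = σ := by
  haveI : Nonempty ι := ⟨i⟩
  choose kx hkx A q sA hAq hxq hprop using exists_local hT hc V σ
  let Vi : ∀ {j : ι} (hij : i ≤ j), (Xs.obj (op j)).Etale := fun {j} hij => (EtCoh.bc (tr Xs hij)).obj V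
  let π : ∀ {j : ι} (hij : i ≤ j), ((EtCoh.bc (pr c i)).obj V).left ⟶ (Vi hij).left :=
    fun {j} hij => bcMap (tr Xs hij) (pr c j) (pr c i) (pr_tr c hij) V
  let τ : ∀ {j k : ι} (hij : i ≤ j) (hjk : j ≤ k), (Vi (hij.trans hjk)).left ⟶ (Vi hij).left :=
    fun {j k} hij hjk => bcMap (tr Xs hij) (tr Xs hjk) (tr Xs (hij.trans hjk)) (tr_comp Xs hij hjk) V
  haveI : CompactSpace ↥((EtCoh.bc (pr c i)).obj V).left := (isQcqsObj_bc_pr i V hc hV).1
  have hopen : ∀ x, IsOpen (Set.range (q x).left.base) := fun x => by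
    haveI := etale_left (q x)
    exact (q x).left.isOpenMap.isOpen_range
  obtain ⟨t, ht⟩ := isCompact_univ.elim_finite_subcover (fun x => (π (hkx x)).base ⁻¹' Set.range (q x).left.base)
    (fun x => (hopen x).preimage (π (hkx x)).continuous) (fun x _ => Set.mem_iUnion.2 ⟨x, hxq x⟩)
  obtain ⟨L, hiL, hL⟩ := exists_ge_all i (fun x : t => kx x.1)
  have hqV : ∀ {j : ι} (hij : i ≤ j), IsQcqsObj (Vi hij) := fun hij => isQcqsObj_bc_map i V hij hV
  have hQex := fun x : t => exists_qcqs_pullback (hL x) (q x.1) (τ (hkx x.1) (hL x))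
    (bcMap_w (tr_comp Xs (hkx x.1) (hL x)) V) (hAq x.1) (hqV _) (hqV _)
  choose Q p b wb hQ hQq using hQex
  let sQ : ∀ x : t, (S.F L).obj.obj (op (Q x)) := fun x => res _ (S.l (hL x)) (b x) (wb x) (sA x.1)
  -- the pieces induce `σ` on the limit
  have hQσ : ∀ (x : t) (W : c.pt.Etale) (g : W ⟶ (EtCoh.bc (pr c i)).obj V) (a : W.left ⟶ (Q x).left)
      (w : a ≫ (Q x).hom = W.hom ≫ pr c L), a ≫ (p x).left = g.left ≫ π hiL →
      res _ (T.g L) a w (sQ x) = T.G.obj.map g.op σ := by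
    intro x W g a w hga
    have w' : (a ≫ b x) ≫ (A x.1).hom = W.hom ≫ pr c (kx x.1) := by
      rw [Category.assoc, wb, ← Category.assoc, w, Category.assoc, pr_tr]
    refine (T.comp (hL x) _ _ _ _ (wb x) a w _ w' rfl _).trans (hprop x.1 W g (a ≫ b x) w' ?_)
    have e : π hiL ≫ τ (hkx x.1) (hL x) = π (hkx x.1) := bcMap_bcMap _ V _ (pr_tr c _) _
    rw [Category.assoc, (hQ x).w, ← Category.assoc, hga, Category.assoc]
    exact congrArg (g.left ≫ ·) e
  -- agreement on overlaps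
  have hov : ∀ (x y : t), ∃ (M : ι) (hLM : L ≤ M), ∀ (Z : (Xs.obj (op M)).Etale) (a₁ : Z.left ⟶ (Q x).left)
      (w₁ : a₁ ≫ (Q x).hom = Z.hom ≫ tr Xs hLM) (a₂ : Z.left ⟶ (Q y).left)
      (w₂ : a₂ ≫ (Q y).hom = Z.hom ≫ tr Xs hLM), a₁ ≫ (p x).left = a₂ ≫ (p y).left →
      res _ (S.l hLM) a₁ w₁ (sQ x) = res _ (S.l hLM) a₂ w₂ (sQ y) := by
    intro x y
    obtain ⟨R, r₁, r₂, wr, hR, hRq⟩ := exists_qcqs_pullback (le_refl L) (p x) (p y).left
      ((MorphismProperty.Over.w (p y)).trans ((Category.comp_id _).symm.trans (congrArg (_ ≫ ·) (tr_refl Xs L).symm)))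
      (hQq x) (hqV _) (hQq y)
    replace wr : r₂ ≫ (Q x).hom = R.hom := wr.trans ((congrArg (R.hom ≫ ·) (tr_refl Xs L)).trans (Category.comp_id _))
    let r₂' : R ⟶ Q x := MorphismProperty.Over.homMk r₂ wr trivial
    let d := (S.F L).obj.map r₂'.op (sQ x) - (S.F L).obj.map r₁.op (sQ y)
    have hd : res _ (T.g L) (bcFst (pr c L) R) (bcFst_w _ R) d = 0 := by
      have w₁ : (bcFst (pr c L) R ≫ r₂) ≫ (Q x).hom = ((EtCoh.bc (pr c L)).obj R).hom ≫ pr c L := by
        rw [Category.assoc, wr, bcFst_w]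
      have w₂ : (bcFst (pr c L) R ≫ r₁.left) ≫ (Q y).hom = ((EtCoh.bc (pr c L)).obj R).hom ≫ pr c L := by
        rw [Category.assoc]
        exact (congrArg (_ ≫ ·) (MorphismProperty.Over.w r₁)).trans (bcFst_w _ R)
      have wμ : ((bcFst (pr c L) R ≫ r₂) ≫ (p x).left ≫ bcFst (tr Xs hiL) V) ≫ V.hom =
          ((EtCoh.bc (pr c L)).obj R).hom ≫ pr c i := by
        simp only [Category.assoc]
        rw [bcFst_w]
        refine Eq.trans ?_ (congrArg (((EtCoh.bc (pr c L)).obj R).hom ≫ ·) (pr_tr c hiL))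
        refine (congrArg (fun r => bcFst (pr c L) R ≫ r₂ ≫ r) ((Category.assoc _ _ _).symm.trans
          (congrArg (· ≫ tr Xs hiL) (MorphismProperty.Over.w (p x))))).trans ?_
        rw [← Category.assoc r₂, wr, ← Category.assoc, bcFst_w, Category.assoc]
      let g := liftBc (pr c i) _ wμ
      have hg : (bcFst (pr c L) R ≫ r₂) ≫ (p x).left = g.left ≫ π hiL := by
        refine bc_hom_ext ?_ ?_
        · simp only [Category.assoc, π, bcMap_fst]
          rw [liftBc_fst, Category.assoc]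
        · rw [Category.assoc]
          refine (congrArg (_ ≫ ·) (MorphismProperty.Over.w (p x))).trans (w₁.trans ?_)
          rw [Category.assoc, bcMap_w, ← Category.assoc]
          exact congrArg (· ≫ pr c L) (MorphismProperty.Over.w g).symm
      rw [map_sub, sub_eq_zero, res_map_left (T.g L) _ _ r₂' (bcFst (pr c L) R ≫ r₂) rfl w₁,
        res_map_left (T.g L) _ _ r₁ _ rfl w₂,
        hQσ x _ g _ w₁ hg, hQσ y _ g _ w₂ ?_]
      rw [Category.assoc, ← hR.w, ← Category.assoc]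
      exact hg
    obtain ⟨M, hLM, hM⟩ := exists_eq_zero hT hc R hRq d hd
    refine ⟨M, hLM, fun Z a₁ w₁ a₂ w₂ he => ?_⟩
    let a := hR.lift a₁ a₂ he
    have ha₁ : a ≫ r₂ = a₁ := hR.lift_fst _ _ _
    have ha₂ : a ≫ r₁.left = a₂ := hR.lift_snd _ _ _
    have wa : a ≫ R.hom = Z.hom ≫ tr Xs hLM := by
      rw [← wr, ← Category.assoc, ha₁, w₁]
    have h0 : res _ (S.l hLM) a wa d = 0 :=
      (res_map_right (S.l hLM) _ (bcFst_w _ R) (liftBc _ a wa) a (liftBc_fst _ _ _) wa d).symm.trans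
        ((congrArg _ hM).trans (map_zero _))
    rw [map_sub, sub_eq_zero, res_map_left (S.l hLM) a wa r₂' a₁ ha₁ w₁,
      res_map_left (S.l hLM) a wa r₁ a₂ ha₂ w₂] at h0
    exact h0
  choose M hLM hM using hov
  -- covering
  let O : (Vi hiL).left.Opens := ⟨⋃ x : t, Set.range (p x).left.base,
    isOpen_iUnion fun x => by
      haveI := etale_left (p x)
      exact (p x).left.isOpenMap.isOpen_range⟩
  have hcov : ∀ (W : Scheme.{u}) (a : W ⟶ (Vi hiL).left) (g : W ⟶ ((EtCoh.bc (pr c i)).obj V).left),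
      a = g ≫ π hiL → ∀ z, a.base z ∈ O := by
    rintro W a g rfl z
    obtain ⟨y, hy, ⟨w, hw⟩⟩ := Set.mem_iUnion₂.1 (ht (Set.mem_univ (g.base z)))
    have e : π hiL ≫ τ (hkx y) (hL ⟨y, hy⟩) = π (hkx y) := bcMap_bcMap _ V _ (pr_tr c _) _
    obtain ⟨z', -, hz'⟩ := exists_point_of_isPullback (hQ ⟨y, hy⟩) w ((g ≫ π hiL).base z) (by
      rw [hw, ← e, Scheme.Hom.comp_apply, Scheme.Hom.comp_apply])
    exact Set.mem_iUnion.2 ⟨⟨y, hy⟩, z', hz'⟩
  obtain ⟨M₀, hLM₀, hM₀⟩ := exists_stage_top L (Vi hiL) hc (hqV hiL) O (fun z => by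
    let g : ((EtCoh.bc (pr c L)).obj (Vi hiL)).left ⟶ ((EtCoh.bc (pr c i)).obj V).left :=
      pullback.lift (bcFst (pr c L) _ ≫ bcFst (tr Xs hiL) V) ((EtCoh.bc (pr c L)).obj (Vi hiL)).hom
        (by rw [Category.assoc, bcFst_w, ← Category.assoc, bcFst_w, Category.assoc, pr_tr])
    refine hcov _ _ g (bc_hom_ext ?_ ?_) z
    · rw [Category.assoc, bcMap_fst]
      exact (pullback.lift_fst _ _ _).symm
    · rw [Category.assoc, bcMap_w, bcFst_w]
      exact ((Category.assoc _ _ _).symm.trans (congrArg (· ≫ pr c L) (pullback.lift_snd _ _ _))).symm)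
  obtain ⟨N, hLN, hN⟩ := exists_ge_all L (fun o : Option (t × t) => o.elim M₀ (fun xy => M xy.1 xy.2))
  have hM₀N : M₀ ≤ N := hN none
  have hMN : ∀ x y, M x y ≤ N := fun x y => hN (some (x, y))
  have hiN : i ≤ N := hiL.trans hLN
  have hQ'ex := fun x : t => exists_qcqs_pullback hLN (p x) (τ hiL hLN)
    (bcMap_w (tr_comp Xs hiL hLN) V) (hQq x) (hqV _) (hqV _)
  choose Q' p' b' wb' hQ' hQ'q using hQ'ex
  let sQ' : ∀ x : t, (S.F N).obj.obj (op (Q' x)) := fun x => res _ (S.l hLN) (b' x) (wb' x) (sQ x)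
  have hcov' : Sieve.ofArrows Q' p' ∈ (Xs.obj (op N)).smallEtaleTopology (Vi hiN) := by
    refine (mem_topology_iff _).2 fun z => ?_
    have hz : (τ hiL hLN).base z ∈ O := by
      let r : (Vi hiN).left ⟶ ((EtCoh.bc (tr Xs hLM₀)).obj (Vi hiL)).left :=
        pullback.lift (τ hiL hLN) ((Vi hiN).hom ≫ tr Xs hM₀N)
          (by rw [Category.assoc, tr_comp]; exact bcMap_w _ V)
      have e : r ≫ bcFst (tr Xs hLM₀) (Vi hiL) = τ hiL hLN := pullback.lift_fst _ _ _
      rw [← e, Scheme.Hom.comp_apply]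
      exact hM₀ (r.base z)
    obtain ⟨x, w, hw⟩ := Set.mem_iUnion.1 hz
    obtain ⟨z', -, hz'⟩ := exists_point_of_isPullback (hQ' x) w z hw
    exact ⟨_, p' x, z', Sieve.ofArrows_mk _ _ x, hz'⟩
  have hsheaf : Presieve.IsSheafFor ((S.F N).obj ⋙ forget AddCommGrpCat.{u + 1})
      (Presieve.ofArrows Q' p') := by
    rw [Presieve.isSheafFor_iff_generate]
    exact ((isSheaf_iff_isSheaf_of_type _ _).1
      ((Presheaf.isSheaf_iff_isSheaf_forget _ (S.F N).obj (forget AddCommGrpCat.{u + 1})).1 (S.F N).2)) _ hcov'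
  obtain ⟨s, hs, -⟩ := (Presieve.isSheafFor_arrows_iff _ _).1 hsheaf sQ' (fun x y Z gx gy he => by
    change (S.F N).obj.map gx.op (sQ' x) = (S.F N).obj.map gy.op (sQ' y)
    have wx : (gx.left ≫ b' x) ≫ (Q x).hom = Z.hom ≫ tr Xs hLN := by
      rw [Category.assoc, wb', ← Category.assoc]
      exact congrArg (· ≫ _) (MorphismProperty.Over.w gx)
    have wy : (gy.left ≫ b' y) ≫ (Q y).hom = Z.hom ≫ tr Xs hLN := by
      rw [Category.assoc, wb', ← Category.assoc]
      exact congrArg (· ≫ _) (MorphismProperty.Over.w gy)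
    rw [res_map_right (S.l hLN) _ _ gx _ rfl wx, res_map_right (S.l hLN) _ _ gy _ rfl wy]
    have he' : gx.left ≫ (p' x).left = gy.left ≫ (p' y).left :=
      congrArg (fun r => CommaMorphism.left r.toCommaMorphism) he
    obtain ⟨Zm, q₁, am, wam, hZm⟩ : ∃ (Zm : (Xs.obj (op (M x y))).Etale)
        (q₁ : Zm.left ⟶ (Q x).left) (am : Z.left ⟶ Zm.left) (wam : am ≫ Zm.hom = Z.hom ≫ tr Xs (hMN x y)),
        ∃ (q₂ : Zm.left ⟶ (Q y).left) (w₁ : q₁ ≫ (Q x).hom = Zm.hom ≫ tr Xs (hLM x y))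
          (w₂ : q₂ ≫ (Q y).hom = Zm.hom ≫ tr Xs (hLM x y)), q₁ ≫ (p x).left = q₂ ≫ (p y).left ∧
          am ≫ q₁ = gx.left ≫ b' x ∧ am ≫ q₂ = gy.left ≫ b' y := by
      obtain ⟨R, r₁, r₂, wr, hR⟩ := exists_pullback_over (tr Xs (le_refl L)) (p x) (p y).left
        ((MorphismProperty.Over.w (p y)).trans ((Category.comp_id _).symm.trans
          (congrArg (_ ≫ ·) (tr_refl Xs L).symm)))
      replace wr : r₂ ≫ (Q x).hom = R.hom := wr.trans ((congrArg (R.hom ≫ ·) (tr_refl Xs L)).trans (Category.comp_id _))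
      have hee : (gx.left ≫ b' x) ≫ (p x).left = (gy.left ≫ b' y) ≫ (p y).left := by
        rw [Category.assoc, Category.assoc, (hQ' x).w, (hQ' y).w, ← Category.assoc, ← Category.assoc, he']
      let a := hR.lift _ _ hee
      have ha₁ : a ≫ r₂ = gx.left ≫ b' x := hR.lift_fst _ _ _
      have ha₂ : a ≫ r₁.left = gy.left ≫ b' y := hR.lift_snd _ _ _
      have wa : a ≫ R.hom = Z.hom ≫ tr Xs hLN := by
        rw [← wr, ← Category.assoc, ha₁, wx]
      let Zm := (EtCoh.bc (tr Xs (hLM x y))).obj R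
      let am : Z.left ⟶ Zm.left := pullback.lift a (Z.hom ≫ tr Xs (hMN x y))
        (by rw [Category.assoc, tr_comp]; exact wa)
      have ham : am ≫ bcFst (tr Xs (hLM x y)) R = a := pullback.lift_fst _ _ _
      refine ⟨Zm, bcFst (tr Xs (hLM x y)) R ≫ r₂, am, pullback.lift_snd _ _ _,
        bcFst (tr Xs (hLM x y)) R ≫ r₁.left, ?_, ?_, ?_, ?_, ?_⟩
      · rw [Category.assoc, wr, bcFst_w]
      · rw [Category.assoc]
        exact (congrArg (_ ≫ ·) (MorphismProperty.Over.w r₁)).trans (bcFst_w _ R)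
      · rw [Category.assoc, Category.assoc, hR.w]
      · rw [← Category.assoc, ham, ha₁]
      · rw [← Category.assoc, ham, ha₂]
    obtain ⟨q₂, w₁, w₂, hq, h₁, h₂⟩ := hZm
    rw [← S.comp (hLM x y) (hMN x y) _ Zm Z q₁ w₁ am wam _ wx h₁,
      ← S.comp (hLM x y) (hMN x y) _ Zm Z q₂ w₂ am wam _ wy h₂, hM x y Zm q₁ w₁ q₂ w₂ hq])
  refine ⟨N, hiN, s, sect_ext T.G _ _ fun z => ?_⟩
  obtain ⟨y, hy, ⟨w, hw⟩⟩ := Set.mem_iUnion₂.1 (ht (Set.mem_univ z))
  have e : π hiL ≫ τ (hkx y) (hL ⟨y, hy⟩) = π (hkx y) := bcMap_bcMap _ V _ (pr_tr c _) _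
  obtain ⟨z₁, -, hz₁⟩ := exists_point_of_isPullback (hQ ⟨y, hy⟩) w ((π hiL).base z) (by
    rw [hw, ← e, Scheme.Hom.comp_apply])
  have e₂ : π hiN ≫ τ hiL hLN = π hiL := bcMap_bcMap _ V _ (pr_tr c _) _
  obtain ⟨z₂, -, hz₂⟩ := exists_point_of_isPullback (hQ' ⟨y, hy⟩) z₁ ((π hiN).base z) (by
    rw [hz₁, ← Scheme.Hom.comp_apply, e₂])
  obtain ⟨W, g, a, wa, hW⟩ := exists_pullback_over (pr c N) (p' ⟨y, hy⟩) (π hiN) (bcMap_w (pr_tr c hiN) V)
  obtain ⟨v, -, hv⟩ := exists_point_of_isPullback hW z₂ z hz₂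
  refine ⟨W, g, v, hv, ?_⟩
  have wg : (g.left ≫ π hiN) ≫ (Vi hiN).hom = W.hom ≫ pr c N := by
    rw [Category.assoc, bcMap_w, ← Category.assoc]
    exact congrArg (· ≫ pr c N) (MorphismProperty.Over.w g)
  rw [res_map_right (T.g N) _ _ g _ rfl wg,
    ← res_map_left (T.g N) a wa (p' ⟨y, hy⟩) (g.left ≫ π hiN) hW.w wg]
  have hsx : (S.F N).obj.map (p' ⟨y, hy⟩).op s = sQ' ⟨y, hy⟩ := hs ⟨y, hy⟩
  rw [hsx]
  have w' : (a ≫ b' ⟨y, hy⟩) ≫ (Q ⟨y, hy⟩).hom = W.hom ≫ pr c L := by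
    rw [Category.assoc, wb', ← Category.assoc, wa, Category.assoc, pr_tr]
  refine (T.comp hLN _ _ _ _ (wb' _) a wa _ w' rfl _).trans (hQσ _ W g _ w' ?_)
  rw [Category.assoc, (hQ' ⟨y, hy⟩).w, ← e₂, ← Category.assoc, hW.w, Category.assoc]

end Groth.Agent.EtLim8
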