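import Groth.Agent.EtLim8.Sys

/-!
# Compatibility in adjoint form
-/

set_option autoImplicit false
set_option linter.unusedSectionVars false
set_option backward.isDefEq.respectTransparency.types false

universe u

open CategoryTheory CategoryTheory.Limits AlgebraicGeometry Opposite

namespace Groth.Agent.EtLim8

theorem pushComp_app_res {X Y Z : Scheme.{u}} (t₁ : Y ⟶ X) (t₂ : Z ⟶ Y) (K : EtCoh.Ab Z) {F : EtCoh.Ab X}
    (θ : F ⟶ (EtCoh.push t₁).obj ((EtCoh.push t₂).obj K)) (V : X.Etale) (s : F.obj.obj (op V))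
    (we : (bcFst t₂ ((EtCoh.bc t₁).obj V) ≫ bcFst t₁ V) ≫ V.hom =
      ((EtCoh.bc t₂).obj ((EtCoh.bc t₁).obj V)).hom ≫ t₂ ≫ t₁) :
    res (t₂ ≫ t₁) (θ ≫ (EtCoh.pushComp t₁ t₂).hom.app K) (bcFst t₂ ((EtCoh.bc t₁).obj V) ≫ bcFst t₁ V) we s =
      (θ.hom.app (op V)).hom s := by
  let p : (EtCoh.bc (t₂ ≫ t₁)).obj V ⟶ (EtCoh.bc t₂).obj ((EtCoh.bc t₁).obj V) :=
    (MorphismProperty.Over.pullbackComp (P := EtCoh.etaleMP) (Q := ⊤) t₂ t₁).hom.app V
  have hp : liftBc (t₂ ≫ t₁) (bcFst t₂ ((EtCoh.bc t₁).obj V) ≫ bcFst t₁ V) we ≫ p = 𝟙 _ := by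
    have h1 : p.left ≫ bcFst t₂ ((EtCoh.bc t₁).obj V) ≫ bcFst t₁ V = bcFst (t₂ ≫ t₁) V :=
      MorphismProperty.Over.pullbackComp_left_fst_fst t₂ t₁ V
    refine hom_bc_ext (bc_hom_ext' ?_ ?_)
    · refine (Category.assoc _ _ _).trans ?_
      refine ((congrArg (_ ≫ ·) h1).trans (liftBc_fst _ _ _)).trans ?_
      exact (Category.id_comp _).symm
    · refine Eq.trans ?_ (Category.assoc _ _ _).symm
      refine Eq.trans ?_ (congrArg (_ ≫ ·) (bcFst_w t₂ _)).symm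
      refine (Category.assoc _ _ _).trans ((congrArg (_ ≫ ·) (bcFst_w t₂ _)).trans ?_)
      rw [← Category.assoc, ← Category.assoc]
      exact congrArg (· ≫ t₂) ((MorphismProperty.Over.w _).trans (MorphismProperty.Over.w (𝟙 _)).symm)
  change K.obj.map (liftBc (t₂ ≫ t₁) _ we).op (K.obj.map p.op ((θ.hom.app (op V)).hom s)) = _
  rw [← Functor.map_comp_apply, ← op_comp, hp, op_id, CategoryTheory.Functor.map_id]
  rfl
where
  bc_hom_ext' {X Y : Scheme.{u}} {t : Y ⟶ X} {V : X.Etale} {P : Scheme.{u}}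
      {p q : P ⟶ ((EtCoh.bc t).obj V).left} (h₁ : p ≫ bcFst t V = q ≫ bcFst t V)
      (h₂ : p ≫ ((EtCoh.bc t).obj V).hom = q ≫ ((EtCoh.bc t).obj V).hom) : p = q := pullback.hom_ext h₁ h₂

/-- morphisms related through `pullComp` are compatible -/
theorem compat_of_pullComp {X Y Z : Scheme.{u}} {t₁ : Y ⟶ X} {t₂ : Z ⟶ Y} {t₃ : Z ⟶ X} (hw : t₃ = t₂ ≫ t₁)
    {F : EtCoh.Ab X} {G : EtCoh.Ab Y} {K : EtCoh.Ab Z} (α : (EtCoh.pull t₁).obj F ⟶ G)
    (β : (EtCoh.pull t₂).obj G ⟶ K) (γ : (EtCoh.pull t₃).obj F ⟶ K)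
    (h : γ = (EtCore.pullCongr hw ≪≫ EtCore.pullComp t₂ t₁).hom.app F ≫ (EtCoh.pull t₂).map α ≫ β) :
    Compat ((EtCoh.pullPushAdj t₁).homEquiv _ _ α) ((EtCoh.pullPushAdj t₂).homEquiv _ _ β)
      ((EtCoh.pullPushAdj t₃).homEquiv _ _ γ) := by
  subst hw
  have hγ : γ = (EtCore.pullComp t₂ t₁).hom.app F ≫ (EtCoh.pull t₂).map α ≫ β := by
    rw [h, EtCore.pullCongr]
    simp
  have e : (EtCoh.pullPushAdj (t₂ ≫ t₁)).homEquiv _ _ γ =
      ((EtCoh.pullPushAdj t₁).homEquiv _ _ α ≫ (EtCoh.push t₁).map ((EtCoh.pullPushAdj t₂).homEquiv _ _ β)) ≫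
        (EtCoh.pushComp t₁ t₂).hom.app K := by
    rw [hγ, Adjunction.homEquiv_naturality_right, EtCore.pullComp, Adjunction.homEquiv_leftAdjointUniq_hom_app]
    simp only [Adjunction.homEquiv_unit, Adjunction.ofNatIsoRight_unit]
    simp
    refine congrArg (_ ≫ ·) ?_
    erw [← (EtCoh.pushComp t₁ t₂).hom.naturality_assoc, ← (EtCoh.pushComp t₁ t₂).hom.naturality]
    simp only [Functor.comp_map]
    rw [← Functor.map_comp_assoc]
    erw [Adjunction.unit_naturality]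
    simp
  refine Compat.mk rfl fun V s we => ?_
  rw [e, pushComp_app_res]
  rfl

end Groth.Agent.EtLim8
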