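import Groth.Agent.EtLim8.Const

/-!
# The system of direct images of a sheaf on the limit
-/

set_option autoImplicit false
set_option linter.style.haveILetI false
set_option linter.unusedSectionVars false
set_option linter.unusedVariables false
set_option backward.isDefEq.respectTransparency.types false

universe u

open CategoryTheory CategoryTheory.Limits AlgebraicGeometry Opposite Abelian

namespace Groth.Agent.EtLim8

open EtFound

variable {ι : Type u} [Preorder ι] {Xs : ιᵒᵖ ⥤ Scheme.{u}} (c : Cone Xs) (F : EtCoh.Ab c.pt)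

/-- the direct images of a sheaf on the limit -/
noncomputable def pushSys : Sys Xs where
  F i := (EtCoh.push (pr c i)).obj F
  l := fun i j h => (pushCmp (tr Xs h) (pr c j) (pr c i) (pr_tr c h) F).hom
  comp i j k hij hjk := by
    rw [compat_iff (tr_comp Xs hij hjk)]
    exact pushCmp_assoc (tr_comp Xs hij hjk) (pr_tr c hjk) (pr_tr c hij) (pr_tr c (hij.trans hjk)) F

theorem pushSys_isUnital : (pushSys c F).IsUnital :=
  (isUnital_iff _).2 fun i => pushCmp_refl_left' c i F
where
  pushCmp_refl_left' (c : Cone Xs) (i : ι) (F : EtCoh.Ab c.pt) :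
      (pushCmp (tr Xs (le_refl i)) (pr c i) (pr c i) (pr_tr c (le_refl i)) F).hom =
        pushId i ((EtCoh.push (pr c i)).obj F) := by
    refine Sheaf.hom_ext (NatTrans.ext (funext fun V => AddCommGrpCat.hom_ext (AddMonoidHom.ext fun s => ?_)))
    change F.obj.map (bcCmp (tr Xs (le_refl i)) (pr c i) (pr c i) (pr_tr c (le_refl i)) V.unop).hom.op s =
      F.obj.map ((EtCoh.bc (pr c i)).map _).op s
    refine congrArg (fun r => (F.obj.map (Quiver.Hom.op r)).hom s) (hom_bc_ext ?_)
    refine (liftBc_fst _ _ _).trans ?_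
    let g₀ : (EtCoh.bc (tr Xs (le_refl i))).obj V.unop ⟶ V.unop := MorphismProperty.Over.homMk
      (bcFst (tr Xs (le_refl i)) V.unop)
      ((bcFst_w _ _).trans ((congrArg (_ ≫ ·) (tr_refl Xs i)).trans (Category.comp_id _))) trivial
    exact (EtCoh.isPullback_bc_map (pr c i) g₀).w.symm

/-- the sheaf as a target of its direct images -/
noncomputable def pushTarget : Target (pushSys c F) c where
  G := F
  g i := 𝟙 _
  comp i j h := by
    rw [compat_iff (pr_tr c h)]
    exact (congrArg (_ ≫ ·) ((EtCoh.push (tr Xs h)).map_id _)).trans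
      ((Category.comp_id _).trans (Category.id_comp _).symm)

theorem pushTarget_res {i : ι} {V : (Xs.obj (op i)).Etale} {W : c.pt.Etale} (a : W.left ⟶ V.left)
    (w : a ≫ V.hom = W.hom ≫ pr c i) (s : F.obj.obj (op ((EtCoh.bc (pr c i)).obj V))) :
    res (pr c i) ((pushTarget c F).g i) a w s = F.obj.map (liftBc (pr c i) a w).op s := rfl

variable [IsDirected ι (· ≤ ·)] [Nonempty ι] [hA : ∀ {a b : ιᵒᵖ} (h : a ⟶ b), IsAffineHom (Xs.map h)]

set_option maxHeartbeats 800000 in
theorem pushTarget_isColim (hc : IsLimit c) (hqc : ∀ a, CompactSpace ↥(Xs.obj a))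
    (hqs : ∀ a, QuasiSeparatedSpace ↥(Xs.obj a)) : (pushTarget c F).IsColim where
  surj W σ x := by
    obtain ⟨B, hB, hxB, -⟩ := exists_isAffineOpen_mem_and_subset (U := (⊤ : W.left.Opens))
      (TopologicalSpace.Opens.mem_top x)
    haveI : AlgebraicGeometry.Etale W.hom := W.prop
    let W₁ : c.pt.Etale := Scheme.Etale.mk (B.ι ≫ W.hom)
    let inc : W₁ ⟶ W := MorphismProperty.Over.homMk B.ι rfl trivial
    haveI : IsAffine W₁.left := hB
    obtain ⟨j, A, a, ha, -⟩ := exists_stage_model hc hqc hqs W₁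
    let n : (EtCoh.bc (pr c j)).obj A ⟶ W₁ := MorphismProperty.Over.homMk
      (ha.lift (bcFst (pr c j) A) ((EtCoh.bc (pr c j)).obj A).hom (bcFst_w _ _)) (ha.lift_snd _ _ _) trivial
    refine ⟨W₁, inc, (⟨x, hxB⟩ : B), rfl, j, A, a, ha.w, F.obj.map n.op (F.obj.map inc.op σ), ?_⟩
    refine (pushTarget_res c F a ha.w _).trans ?_
    refine (Functor.map_comp_apply _ _ _ _).symm.trans ?_
    have hn : liftBc (pr c j) a ha.w ≫ n = 𝟙 W₁ := by
      refine MorphismProperty.Over.Hom.ext (ha.hom_ext ?_ ?_)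
      · refine (Category.assoc _ _ _).trans ((congrArg (_ ≫ ·) (ha.lift_fst _ _ _)).trans ?_)
        exact (liftBc_fst _ _ _).trans (Category.id_comp a).symm
      · exact (MorphismProperty.Over.w (liftBc (pr c j) a ha.w ≫ n)).trans (Category.id_comp W₁.hom).symm
    rw [← op_comp, hn, op_id, CategoryTheory.Functor.map_id]
    rfl
  inj j V W a w s h x := by
    let θ := liftBc (pr c j) a w
    have hx : θ.left.base x ∈ nullLocus F _ s := ⟨W, θ, x, rfl, h⟩
    obtain ⟨l, hjl, B, hB, hxB, hBO⟩ := exists_affine_nhd j V hc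
      ⟨nullLocus F _ s, isOpen_nullLocus _ _ _⟩ (θ.left.base x) hx
    let V' := (EtCoh.bc (tr Xs hjl)).obj V
    let b : W.left ⟶ V'.left := pullback.lift a (W.hom ≫ pr c l) (by rw [Category.assoc, pr_tr]; exact w)
    have hb : b ≫ bcFst (tr Xs hjl) V = a := pullback.lift_fst _ _ _
    have wb : b ≫ V'.hom = W.hom ≫ pr c l := pullback.lift_snd _ _ _
    refine ⟨l, hjl, V', b, wb, bcFst (tr Xs hjl) V, bcFst_w _ V, hb, ?_⟩
    have hbθ : θ.left ≫ bcMap (tr Xs hjl) (pr c l) (pr c j) (pr_tr c hjl) V = b := by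
      refine bc_hom_ext ?_ ?_
      · rw [Category.assoc, bcMap_fst, hb]
        exact liftBc_fst _ _ _
      · rw [Category.assoc, bcMap_w, wb, ← Category.assoc]
        exact congrArg (· ≫ pr c l) (MorphismProperty.Over.w θ)
    haveI : AlgebraicGeometry.Etale V'.hom := V'.prop
    let U : (Xs.obj (op l)).Etale := Scheme.Etale.mk (B.ι ≫ V'.hom)
    let η : U ⟶ V' := MorphismProperty.Over.homMk B.ι rfl trivial
    have hbx : b.base x ∈ B := by
      rw [← hbθ, Scheme.Hom.comp_apply]
      exact hxB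
    refine ⟨U, η, (⟨b.base x, hbx⟩ : B), rfl, ?_⟩
    rw [res_bcFst]
    change F.obj.map ((EtCoh.bc (pr c l)).map η).op
      (F.obj.map (bcCmp (tr Xs hjl) (pr c l) (pr c j) (pr_tr c hjl) V).hom.op s) = 0
    refine (Functor.map_comp_apply _ _ _ _).symm.trans ?_
    rw [← op_comp]
    let μ := (EtCoh.bc (pr c l)).map η ≫ (bcCmp (tr Xs hjl) (pr c l) (pr c j) (pr_tr c hjl) V).hom
    refine eq_zero_of_nullLocus fun z => map_mem_nullLocus μ s (hBO _ ?_)
    have e : μ.left ≫ bcMap (tr Xs hjl) (pr c l) (pr c j) (pr_tr c hjl) V = bcFst (pr c l) U ≫ η.left := by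
      refine bc_hom_ext ?_ ?_
      · rw [Category.assoc, bcMap_fst]
        refine (Category.assoc _ _ _).trans ((congrArg (_ ≫ ·) (liftBc_fst _ _ _)).trans ?_)
        refine (Category.assoc _ _ _).symm.trans ?_
        exact congrArg (· ≫ bcFst (tr Xs hjl) V) (EtCoh.isPullback_bc_map (pr c l) η).w
      · rw [Category.assoc, bcMap_w, ← Category.assoc]
        refine (congrArg (· ≫ pr c l) (MorphismProperty.Over.w μ)).trans ?_
        refine ((bcFst_w (pr c l) U).symm).trans ?_
        exact (congrArg (_ ≫ ·) (MorphismProperty.Over.w η).symm).trans (Category.assoc _ _ _).symm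
    rw [← Scheme.Hom.comp_apply, e, Scheme.Hom.comp_apply]
    exact ((bcFst (pr c l) U).base z).2

variable {c F}

/-- a stalkwise colimit target is the colimit -/
theorem isIso_descColim_of_isColim (S : Sys Xs) (hU : S.IsUnital) (T : Target S c) (hT : T.IsColim) :
    IsIso (S.descColim (c := c) hU (fun j => ((EtCoh.pullPushAdj (pr c j)).homEquiv _ _).symm (T.g j))
      (fun i j h => by rw [Equiv.apply_symm_apply, Equiv.apply_symm_apply]; exact T.comp h)) := by
  set δ := S.descColim (c := c) hU (fun j => ((EtCoh.pullPushAdj (pr c j)).homEquiv _ _).symm (T.g j))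
      (fun i j h => by rw [Equiv.apply_symm_apply, Equiv.apply_symm_apply]; exact T.comp h) with hδ
  have hres : ∀ {j : ι} {V : (Xs.obj (op j)).Etale} {W : c.pt.Etale} (a : W.left ⟶ V.left)
      (w : a ≫ V.hom = W.hom ≫ pr c j) (s : (S.F j).obj.obj (op V)),
      (δ.hom.app (op W)).hom (res _ ((S.diag c hU).target.g j) a w s) = res _ (T.g j) a w s := by
    intro j V W a w s
    refine (res_comp_push_map ((S.diag c hU).target.g j) δ a w s).symm.trans ?_
    refine congrArg (fun l => res (pr c j) l a w s) ?_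
    rw [S.target_g hU]
    refine ((EtCoh.pullPushAdj (pr c j)).homEquiv_naturality_right _ δ).symm.trans ?_
    rw [hδ]
    exact (congrArg ((EtCoh.pullPushAdj (pr c j)).homEquiv _ _) (S.ι_descColim hU _ _ j)).trans
      (Equiv.apply_symm_apply _ _)
  have hD := (S.diag c hU).isColim
  refine (Sheaf.isLocallyBijective_iff_isIso δ).1 ⟨Presheaf.isLocallyInjective_of_injective _ _
    fun W σ σ' hσ => sub_eq_zero.1 (sect_ext _ _ 0 fun x => ?_), ⟨fun {W} σ => (mem_topology_iff _).2 fun x => ?_⟩⟩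
  · obtain ⟨W', q, y, hy, j, V, a, w, s, hs⟩ := hD.surj W.unop (σ - σ') x
    have h0 : res _ (T.g j) a w s = 0 := by
      refine (hres a w s).symm.trans ((congrArg (δ.hom.app (op W')).hom hs).trans
        ((NatTrans.naturality_apply δ.hom q.op (σ - σ')).trans ?_))
      exact (congrArg (T.G.obj.map q.op).hom ((map_sub _ _ _).trans (sub_eq_zero.2 hσ))).trans (map_zero _)
    obtain ⟨k, hjk, W₁, b, wb, e, we, hbe, hb⟩ := hT.inj j V W' a w s h0 y
    have h1 := res_mem_nullLocus ((S.diag c hU).target.g k) b wb _ hb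
    rw [(S.diag c hU).target.comp hjk V W₁ W' e we b wb a w hbe s, hs] at h1
    obtain ⟨U, g, z, hz, hg⟩ := h1
    refine ⟨U, g ≫ q, z, ?_, ?_⟩
    · rw [← hy, ← hz]
      exact Scheme.Hom.comp_apply g.left q.left z
    · rw [op_comp, Functor.map_comp_apply, map_zero]
      exact hg
  · obtain ⟨W', q, y, hy, j, V, a, w, s, hs⟩ := hT.surj W σ x
    exact ⟨W', q, y, ⟨res _ ((S.diag c hU).target.g j) a w s, (hres a w s).trans hs⟩, hy⟩

end Groth.Agent.EtLim8

namespace Groth.Agent.EtLim8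

open Opposite CategoryTheory CategoryTheory.Limits AlgebraicGeometry in
theorem pushCongr_pushComp_inv {X Y Z : Scheme.{u}} (t₁ : Y ⟶ X) (t₂ : Z ⟶ Y) (t₃ : Z ⟶ X) (hw : t₂ ≫ t₁ = t₃)
    (K : EtCoh.Ab Z) :
    ((EtCoh.pushCongr hw.symm).app K).hom ≫ (EtCoh.pushComp t₁ t₂).inv.app K = (pushCmp t₁ t₂ t₃ hw K).hom := by
  rw [← cancel_mono ((EtCoh.pushComp t₁ t₂).hom.app K), Category.assoc, Iso.inv_hom_id_app]
  refine (Category.comp_id _).trans ?_
  refine Sheaf.hom_ext (NatTrans.ext (funext fun V => AddCommGrpCat.hom_ext (AddMonoidHom.ext fun s => ?_)))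
  let p : (EtCoh.bc (t₂ ≫ t₁)).obj V.unop ⟶ (EtCoh.bc t₂).obj ((EtCoh.bc t₁).obj V.unop) :=
    (MorphismProperty.Over.pullbackComp (P := EtCoh.etaleMP) (Q := ⊤) t₂ t₁).hom.app V.unop
  change (((EtCoh.pushCongr hw.symm).app K).hom.hom.app V).hom s =
    K.obj.map p.op (K.obj.map (bcCmp t₁ t₂ t₃ hw V.unop).hom.op s)
  subst hw
  let q : (EtCoh.bc (t₂ ≫ t₁)).obj V.unop ⟶ (EtCoh.bc (t₂ ≫ t₁)).obj V.unop :=
    (MorphismProperty.Over.pullbackCongr (P := EtCoh.etaleMP) (Q := ⊤) (rfl : t₂ ≫ t₁ = t₂ ≫ t₁)).inv.app V.unop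
  change K.obj.map q.op s = _
  refine Eq.trans ?_ (Functor.map_comp_apply _ _ _ _)
  rw [← op_comp]
  refine congrArg (fun r => (K.obj.map (Quiver.Hom.op r)).hom s) (hom_bc_ext ?_)
  refine Eq.trans ?_ (Category.assoc _ _ _).symm
  refine Eq.trans ?_ (congrArg (p.left ≫ ·) (liftBc_fst _ _ _)).symm
  refine Eq.trans ?_ (MorphismProperty.Over.pullbackComp_left_fst_fst t₂ t₁ V.unop).symm
  have e : q = 𝟙 _ := by
    refine hom_bc_ext ?_
    simp [q, MorphismProperty.Over.pullbackCongr]
    rfl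
  rw [e]
  exact Category.id_comp _

end Groth.Agent.EtLim8
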