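import Groth.Agent.EtLim8.Cover
import Groth.Agent.EtLC12.QcqsAcyclic
import Groth.Agent.EtFound.PullStalk

/-!
# Acyclicity on the limit from acyclicity at the stages
-/

set_option autoImplicit false
set_option linter.style.haveILetI false
set_option linter.unusedSectionVars false
set_option linter.unusedVariables false
set_option backward.isDefEq.respectTransparency.types false

universe u

open CategoryTheory CategoryTheory.Limits AlgebraicGeometry Opposite Abelian

namespace Groth.Agent.EtLim8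

open EtFound EtLC12.QcqsAcyclic

theorem injective_push {X Y : Scheme.{u}} (f : X ⟶ Y) (I : EtCoh.Ab X) [Injective I] :
    Injective ((EtCoh.push f).obj I) :=
  haveI := pull_preservesFiniteLimits f
  Injective.injective_of_adjoint (EtCoh.pullPushAdj f) I

/-- a morphism bijective on affine étale schemes is an isomorphism -/
theorem isIso_of_bijective_qcqs {X : Scheme.{u}} {F G : EtCoh.Ab X} (φ : F ⟶ G)
    (h : ∀ V : X.Etale, IsQcqsObj V → Function.Bijective (φ.hom.app (op V)).hom) : IsIso φ := by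
  have hnb : ∀ (U : X.Etale) (x : U.left), ∃ (V : X.Etale) (g : V ⟶ U) (v : V.left),
      IsQcqsObj V ∧ g.left.base v = x := by
    intro U x
    obtain ⟨A, hA, hxA, -⟩ := exists_isAffineOpen_mem_and_subset (U := (⊤ : U.left.Opens))
      (TopologicalSpace.Opens.mem_top x)
    haveI : AlgebraicGeometry.Etale U.hom := U.prop
    refine ⟨Scheme.Etale.mk (A.ι ≫ U.hom), MorphismProperty.Over.homMk A.ι rfl trivial, (⟨x, hxA⟩ : A), ?_, rfl⟩
    haveI : IsAffine (Scheme.Etale.mk (A.ι ≫ U.hom)).left := hA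
    exact isQcqsObj_of_isAffine _
  refine (Sheaf.isLocallyBijective_iff_isIso φ).1 ⟨Presheaf.isLocallyInjective_of_injective _ _
    fun U s t hst => sect_ext F s t fun x => ?_, ⟨fun {U} s => (mem_topology_iff _).2 fun x => ?_⟩⟩
  · obtain ⟨V, g, v, hV, hv⟩ := hnb U.unop x
    refine ⟨V, g, v, hv, (h V hV).1 ?_⟩
    rw [NatTrans.naturality_apply, NatTrans.naturality_apply]
    exact congrArg _ hst
  · obtain ⟨V, g, v, hV, hv⟩ := hnb U x
    exact ⟨V, g, v, (h V hV).2 _, hv⟩

variable {ι : Type u} [Preorder ι] [IsDirected ι (· ≤ ·)] [Nonempty ι] {Xs : ιᵒᵖ ⥤ Scheme.{u}} {c : Cone Xs}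

/-- all direct images to the stages are Čech acyclic -/
def IsLimAcyclic (c : Cone Xs) (G : EtCoh.Ab c.pt) : Prop :=
  ∀ m : ι, IsCechAcyclic ((EtCoh.push (pr c m)).obj G)

theorem isLimAcyclic_of_injective (G : EtCoh.Ab c.pt) [Injective G] : IsLimAcyclic c G := fun m =>
  haveI := injective_push (pr c m) G
  isCechAcyclic_of_injective _

variable [hA : ∀ {a b : ιᵒᵖ} (h : a ⟶ b), IsAffineHom (Xs.map h)] (hc : IsLimit c)
  (hqc : ∀ a, CompactSpace ↥(Xs.obj a)) (hqs : ∀ a, QuasiSeparatedSpace ↥(Xs.obj a))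
  (S : ShortComplex (EtCoh.Ab c.pt)) (hS : S.ShortExact)

include hc hqc hqs hS

set_option maxHeartbeats 1600000 in
theorem sections_surjective (h1 : IsLimAcyclic c S.X₁) {i : ι} (V : (Xs.obj (op i)).Etale) (hV : IsQcqsObj V) :
    Function.Surjective (S.g.hom.app (op ((EtCoh.bc (pr c i)).obj V))).hom := by
  intro z
  haveI := hS.mono_f
  haveI := hS.epi_g
  have hloc : Presheaf.IsLocallySurjective c.pt.smallEtaleTopology S.g.hom :=
    (Sheaf.isLocallySurjective_iff_epi' AddCommGrpCat.{u + 1} S.g).2 inferInstance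
  let P : ∀ (l : ι) (hil : i ≤ l) (A : (Xs.obj (op l)).Etale) (q : A ⟶ (EtCoh.bc (tr Xs hil)).obj V), Prop :=
    fun l hil A q => ∀ (W : c.pt.Etale) (g : W ⟶ (EtCoh.bc (pr c i)).obj V) (a : W.left ⟶ A.left),
      a ≫ A.hom = W.hom ≫ pr c l →
      a ≫ q.left = g.left ≫ bcMap (tr Xs hil) (pr c l) (pr c i) (pr_tr c hil) V →
      ∃ s, (S.g.hom.app (op W)).hom s = S.X₃.obj.map g.op z
  obtain ⟨N, hiN, κ, hκ, Q, p, hQq, hcov, hQ⟩ := exists_stage_cover hc V hV P (fun x => by
    obtain ⟨W₀, g₀, w₀, ⟨τ₀, hτ₀⟩, hw₀⟩ := (mem_topology_iff _).1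
      (hloc.imageSieve_mem (U := (EtCoh.bc (pr c i)).obj V) z) x
    obtain ⟨B, hB, hwB, -⟩ := exists_isAffineOpen_mem_and_subset (U := (⊤ : W₀.left.Opens))
      (TopologicalSpace.Opens.mem_top w₀)
    haveI : AlgebraicGeometry.Etale W₀.hom := W₀.prop
    let W : c.pt.Etale := Scheme.Etale.mk (B.ι ≫ W₀.hom)
    let inc : W ⟶ W₀ := MorphismProperty.Over.homMk B.ι rfl trivial
    let y : W.left := (⟨w₀, hwB⟩ : B)
    let g₁ : W ⟶ (EtCoh.bc (pr c i)).obj V := inc ≫ g₀
    obtain ⟨τ₁, hτ₁⟩ : ∃ τ₁ : S.X₂.obj.obj (op W),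
        (S.g.hom.app (op W)).hom τ₁ = S.X₃.obj.map g₁.op z := by
      refine ⟨S.X₂.obj.map inc.op τ₀, ?_⟩
      rw [op_comp, Functor.map_comp_apply, ← hτ₀]
      exact NatTrans.naturality_apply S.g.hom inc.op τ₀
    have hy : g₁.left.base y = x := by
      rw [← hw₀]
      exact Scheme.Hom.comp_apply inc.left g₀.left y
    haveI : IsAffine W.left := hB
    obtain ⟨j, A, a, ha, hAq⟩ := exists_stage_model hc hqc hqs W
    obtain ⟨k, hik, hjk⟩ := exists_ge_ge i j
    let U' := (EtCoh.bc (tr Xs hjk)).obj A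
    let V' := (EtCoh.bc (tr Xs hik)).obj V
    let a₁ : W.left ⟶ U'.left := pullback.lift a (W.hom ≫ pr c k) (by rw [Category.assoc, pr_tr]; exact ha.w)
    have wa₁ : a₁ ≫ U'.hom = W.hom ≫ pr c k := pullback.lift_snd _ _ _
    have ha₁ : a₁ ≫ bcFst (tr Xs hjk) A = a := pullback.lift_fst _ _ _
    haveI : AlgebraicGeometry.Etale U'.hom := U'.prop
    haveI : AlgebraicGeometry.Etale V'.hom := V'.prop
    haveI : AlgebraicGeometry.Etale (pullback.fst U'.hom V'.hom) := MorphismProperty.pullback_fst _ _ V'.prop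
    let R : (Xs.obj (op k)).Etale := Scheme.Etale.mk (pullback.fst U'.hom V'.hom ≫ U'.hom)
    let p₁ : R ⟶ U' := MorphismProperty.Over.homMk (pullback.fst U'.hom V'.hom) rfl trivial
    let p₂ : R ⟶ V' := MorphismProperty.Over.homMk (pullback.snd U'.hom V'.hom) pullback.condition.symm trivial
    let R' := (EtCoh.bc (pr c k)).obj R
    have wμ : ((bcFst (pr c k) R ≫ p₂.left) ≫ bcFst (tr Xs hik) V) ≫ V.hom = R'.hom ≫ pr c i := by
      simp only [Category.assoc]
      rw [bcFst_w]
      refine Eq.trans ?_ (congrArg (R'.hom ≫ ·) (pr_tr c hik))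
      refine (congrArg (bcFst (pr c k) R ≫ ·) ((Category.assoc _ _ _).symm.trans
        (congrArg (· ≫ tr Xs hik) (MorphismProperty.Over.w p₂)))).trans ?_
      exact (Category.assoc _ _ _).symm.trans
        ((congrArg (· ≫ tr Xs hik) (bcFst_w _ R)).trans (Category.assoc _ _ _))
    let m₂ : R' ⟶ (EtCoh.bc (pr c i)).obj V := liftBc (pr c i) _ wμ
    have wh : ((bcFst (pr c k) R ≫ p₁.left) ≫ bcFst (tr Xs hjk) A) ≫ A.hom = R'.hom ≫ pr c j := by
      simp only [Category.assoc]
      rw [bcFst_w]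
      refine Eq.trans ?_ (congrArg (R'.hom ≫ ·) (pr_tr c hjk))
      refine (congrArg (bcFst (pr c k) R ≫ ·) ((Category.assoc _ _ _).symm.trans
        (congrArg (· ≫ tr Xs hjk) (MorphismProperty.Over.w p₁)))).trans ?_
      exact (Category.assoc _ _ _).symm.trans
        ((congrArg (· ≫ tr Xs hjk) (bcFst_w _ R)).trans (Category.assoc _ _ _))
    let h : R' ⟶ W := MorphismProperty.Over.homMk
      (ha.lift ((bcFst (pr c k) R ≫ p₁.left) ≫ bcFst (tr Xs hjk) A) R'.hom wh) (ha.lift_snd _ _ _) trivial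
    let b : W.left ⟶ R.left :=
      pullback.lift a₁ (g₁.left ≫ bcMap (tr Xs hik) (pr c k) (pr c i) (pr_tr c hik) V) (by
        refine wa₁.trans ?_
        rw [Category.assoc]
        refine Eq.trans ?_ (congrArg (g₁.left ≫ ·) (bcMap_w (pr_tr c hik) V)).symm
        rw [← Category.assoc]
        exact (congrArg (· ≫ pr c k) (MorphismProperty.Over.w g₁)).symm)
    have hb₁ : b ≫ p₁.left = a₁ := pullback.lift_fst _ _ _
    have hb₂ : b ≫ p₂.left = g₁.left ≫ bcMap (tr Xs hik) (pr c k) (pr c i) (pr_tr c hik) V :=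
      pullback.lift_snd _ _ _
    have wb : b ≫ R.hom = W.hom ≫ pr c k :=
      ((congrArg (b ≫ ·) (MorphismProperty.Over.w p₁).symm).trans ((Category.assoc _ _ _).symm.trans
        (congrArg (· ≫ U'.hom) hb₁))).trans wa₁
    let e : W ⟶ R' := liftBc (pr c k) b wb
    have heh : e ≫ h = 𝟙 W := by
      refine MorphismProperty.Over.Hom.ext (ha.hom_ext ?_ ?_)
      · refine (Category.assoc _ _ _).trans ((congrArg (e.left ≫ ·) (ha.lift_fst _ _ _)).trans ?_)
        simp only [← Category.assoc]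
        erw [liftBc_fst, hb₁, ha₁]
        exact (Category.id_comp a).symm
      · refine (MorphismProperty.Over.w (e ≫ h)).trans ?_
        exact (Category.id_comp W.hom).symm
    have hem : e ≫ m₂ = g₁ := by
      refine hom_bc_ext ?_
      refine (Category.assoc _ _ _).trans ((congrArg (e.left ≫ ·) (liftBc_fst _ _ _)).trans ?_)
      simp only [← Category.assoc]
      erw [liftBc_fst, hb₂]
      rw [Category.assoc, bcMap_fst]
    let d := (S.g.hom.app (op R')).hom (S.X₂.obj.map h.op τ₁) - S.X₃.obj.map m₂.op z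
    have hde : S.X₃.obj.map e.op d = 0 := by
      rw [map_sub, sub_eq_zero]
      refine (NatTrans.naturality_apply S.g.hom e.op _).symm.trans ?_
      rw [← Functor.map_comp_apply, ← op_comp, heh, ← Functor.map_comp_apply, ← op_comp, hem, op_id,
        CategoryTheory.Functor.map_id]
      exact hτ₁
    let O : R'.left.Opens := ⟨nullLocus S.X₃ R' d, isOpen_nullLocus _ _ _⟩
    obtain ⟨l, hkl, B', hB', hyB, hBO⟩ := exists_affine_nhd k R hc O (e.left.base y) ⟨W, e, y, rfl, hde⟩
    let R'' := (EtCoh.bc (tr Xs hkl)).obj R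
    haveI : AlgebraicGeometry.Etale R''.hom := R''.prop
    let A' : (Xs.obj (op l)).Etale := Scheme.Etale.mk (B'.ι ≫ R''.hom)
    let η : A' ⟶ R'' := MorphismProperty.Over.homMk B'.ι rfl trivial
    have wν' : ((bcFst (tr Xs hkl) R ≫ p₂.left) ≫ bcFst (tr Xs hik) V) ≫ V.hom =
        R''.hom ≫ tr Xs (hik.trans hkl) := by
      simp only [Category.assoc]
      rw [bcFst_w]
      refine Eq.trans ?_ (congrArg (R''.hom ≫ ·) (tr_comp Xs hik hkl))
      refine (congrArg (bcFst (tr Xs hkl) R ≫ ·) ((Category.assoc _ _ _).symm.trans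
        (congrArg (· ≫ tr Xs hik) (MorphismProperty.Over.w p₂)))).trans ?_
      exact (Category.assoc _ _ _).symm.trans
        ((congrArg (· ≫ tr Xs hik) (bcFst_w _ R)).trans (Category.assoc _ _ _))
    let qq : R'' ⟶ (EtCoh.bc (tr Xs (hik.trans hkl))).obj V := liftBc (tr Xs (hik.trans hkl)) _ wν'
    refine ⟨l, hik.trans hkl, A', η ≫ qq, ?_, ?_, ?_⟩
    · haveI : IsAffine A'.left := hB'
      exact isQcqsObj_of_isAffine _
    · intro W' g a' wa' hga
      have wη : (η.left ≫ bcFst (tr Xs hkl) R) ≫ R.hom = A'.hom ≫ tr Xs hkl := by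
        rw [Category.assoc, bcFst_w, ← Category.assoc]
        exact congrArg (· ≫ _) (MorphismProperty.Over.w η)
      have wr : ((a' ≫ η.left) ≫ bcFst (tr Xs hkl) R) ≫ R.hom = W'.hom ≫ pr c k := by
        rw [Category.assoc, Category.assoc, ← Category.assoc η.left, wη, ← Category.assoc, wa',
          Category.assoc, pr_tr]
      let r : W' ⟶ R' := liftBc (pr c k) ((a' ≫ η.left) ≫ bcFst (tr Xs hkl) R) wr
      have hrg : r ≫ m₂ = g := by
        refine hom_bc_ext ?_
        refine (Category.assoc _ _ _).trans ((congrArg (r.left ≫ ·) (liftBc_fst _ _ _)).trans ?_)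
        simp only [← Category.assoc]
        erw [liftBc_fst]
        have e4 : (η ≫ qq).left ≫ bcFst (tr Xs (hik.trans hkl)) V =
            η.left ≫ (bcFst (tr Xs hkl) R ≫ p₂.left) ≫ bcFst (tr Xs hik) V :=
          (Category.assoc _ _ _).trans (congrArg (η.left ≫ ·) (liftBc_fst _ _ _))
        simp only [Category.assoc] at e4 ⊢
        rw [← e4, ← Category.assoc, hga, Category.assoc, bcMap_fst]
      have hr : S.X₃.obj.map r.op d = 0 := eq_zero_of_nullLocus fun w => map_mem_nullLocus r d (by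
        refine hBO _ ?_
        have e5 : r.left ≫ bcMap (tr Xs hkl) (pr c l) (pr c k) (pr_tr c hkl) R = a' ≫ η.left := by
          refine bc_hom_ext ?_ ?_
          · rw [Category.assoc, bcMap_fst]
            exact liftBc_fst _ _ _
          · rw [Category.assoc, bcMap_w, Category.assoc]
            refine (Category.assoc _ _ _).symm.trans ((congrArg (· ≫ pr c l) (MorphismProperty.Over.w r)).trans ?_)
            refine wa'.symm.trans ?_
            exact (congrArg (a' ≫ ·) (MorphismProperty.Over.w η)).symm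
        rw [← Scheme.Hom.comp_apply, e5, Scheme.Hom.comp_apply]
        exact (a'.base w).2)
      refine ⟨S.X₂.obj.map r.op (S.X₂.obj.map h.op τ₁), ?_⟩
      rw [map_sub, sub_eq_zero] at hr
      refine (NatTrans.naturality_apply S.g.hom r.op _).trans (hr.trans ?_)
      rw [← Functor.map_comp_apply, ← op_comp, hrg]
    · refine ⟨(⟨_, hyB⟩ : B'), ?_⟩
      have e3 : (e.left ≫ bcMap (tr Xs hkl) (pr c l) (pr c k) (pr_tr c hkl) R) ≫ qq.left =
          g₁.left ≫ bcMap (tr Xs (hik.trans hkl)) (pr c l) (pr c i) (pr_tr c _) V := by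
        refine bc_hom_ext ?_ ?_
        · simp only [qq, Category.assoc, liftBc_fst, bcMap_fst, bcMap_fst_assoc]
          erw [liftBc_fst_assoc, ← Category.assoc, hb₂]
          rw [Category.assoc, bcMap_fst]
        · simp only [Category.assoc]
          refine (congrArg (fun r => e.left ≫ bcMap (tr Xs hkl) (pr c l) (pr c k) (pr_tr c hkl) R ≫ r)
            (MorphismProperty.Over.w qq)).trans ?_
          rw [bcMap_w, bcMap_w]
          refine (Category.assoc _ _ _).symm.trans ((congrArg (· ≫ pr c l) (MorphismProperty.Over.w e)).trans ?_)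
          refine Eq.trans ?_ (Category.assoc _ _ _)
          exact congrArg (· ≫ pr c l) (MorphismProperty.Over.w g₁).symm
      change (η.left ≫ qq.left).base _ = _
      rw [Scheme.Hom.comp_apply, ← hy, ← Scheme.Hom.comp_apply g₁.left, ← e3, Scheme.Hom.comp_apply,
        Scheme.Hom.comp_apply]
      rfl)
  haveI : LocallySmall.{u + 1} (Xs.obj (op N)).Etale := ⟨fun _ _ => inferInstance⟩
  let VN := (EtCoh.bc (tr Xs hiN)).obj V
  haveI : HasFiniteProducts (Over VN) := hasFiniteProducts_of_has_binary_and_terminal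
  let Uf : κ → Over VN := fun k => Over.mk (p k)
  let S' := S.map (EtCoh.push (pr c N))
  have hsheaf : ∀ F : EtCoh.Ab (Xs.obj (op N)), Presieve.IsSheafFor (F.obj ⋙ forget AddCommGrpCat.{u + 1})
      (Presieve.ofArrows (fun i => (Uf i).left) fun i => (Uf i).hom) := by
    intro F
    rw [Presieve.isSheafFor_iff_generate]
    exact ((isSheaf_iff_isSheaf_of_type _ _).1
      ((Presheaf.isSheaf_iff_isSheaf_forget _ F.obj (forget AddCommGrpCat.{u + 1})).1 F.2)) _ hcov
  have wn : (((EtCoh.bc (pr c N)).obj VN).hom : _ ⟶ c.pt) ≫ pr c i =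
      ((EtCoh.bc (pr c N)).obj VN).hom ≫ pr c i := rfl
  have wm : (bcFst (pr c N) VN ≫ bcFst (tr Xs hiN) V) ≫ V.hom = ((EtCoh.bc (pr c N)).obj VN).hom ≫ pr c i := by
    rw [Category.assoc, bcFst_w, ← Category.assoc, bcFst_w, Category.assoc, pr_tr]
  let m : (EtCoh.bc (pr c N)).obj VN ⟶ (EtCoh.bc (pr c i)).obj V := liftBc (pr c i) _ wm
  let n : (EtCoh.bc (pr c i)).obj V ⟶ (EtCoh.bc (pr c N)).obj VN :=
    liftBc (pr c N) (bcMap (tr Xs hiN) (pr c N) (pr c i) (pr_tr c hiN) V) (bcMap_w _ V)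
  have hnm : n ≫ m = 𝟙 _ := by
    refine hom_bc_ext ?_
    refine (Category.assoc _ _ _).trans ((congrArg (n.left ≫ ·) (liftBc_fst _ _ _)).trans ?_)
    rw [← Category.assoc]
    erw [liftBc_fst, bcMap_fst]
    exact (Category.id_comp _).symm
  have hlift : ∀ k : κ, ∃ s : S'.X₂.obj.obj (op (Uf k).left),
      (S'.g.hom.app (op (Uf k).left)).hom s = S'.X₃.obj.map (Uf k).hom.op (S.X₃.obj.map m.op z) := by
    intro k
    obtain ⟨l, hil, hlN, A, q, b, wb, hP, hbq⟩ := hQ k
    let W := (EtCoh.bc (pr c N)).obj (Q k)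
    have wa : (bcFst (pr c N) (Q k) ≫ b) ≫ A.hom = W.hom ≫ pr c l := by
      rw [Category.assoc, wb, ← Category.assoc, bcFst_w, Category.assoc, pr_tr]
    obtain ⟨s, hs⟩ := hP W ((EtCoh.bc (pr c N)).map (p k) ≫ m) (bcFst (pr c N) (Q k) ≫ b) wa (by
      refine bc_hom_ext ?_ ?_
      · rw [Category.assoc, Category.assoc, ← Category.assoc b, hbq, Category.assoc, Category.assoc, bcMap_fst,
          bcMap_fst]
        refine Eq.trans ?_ (Category.assoc _ _ _).symm
        refine Eq.trans ?_ (congrArg (((EtCoh.bc (pr c N)).map (p k)).left ≫ ·) (liftBc_fst _ _ _)).symm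
        rw [← Category.assoc, ← Category.assoc]
        exact congrArg (· ≫ _) (EtCoh.isPullback_bc_map (pr c N) (p k)).w.symm
      · refine (Category.assoc _ _ _).trans ((congrArg (_ ≫ ·) (MorphismProperty.Over.w q)).trans (wa.trans ?_))
        rw [Category.assoc, bcMap_w, ← Category.assoc]
        exact congrArg (· ≫ _) (MorphismProperty.Over.w ((EtCoh.bc (pr c N)).map (p k) ≫ m)).symm)
    exact ⟨s, hs.trans (by rw [op_comp, Functor.map_comp_apply]; rfl)⟩
  choose sl hsl using hlift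
  obtain ⟨t, ht⟩ := CechSurjGen.exists_lift_of_isZero_cechH_one (Uf := Uf) S'.f.hom S'.g.hom
    (fun T => SiteBase.sheaf_app_injective S.f ((EtCoh.bc (pr c N)).obj T.unop))
    (fun T y hy => (SiteBase.secExact_iff S ((EtCoh.bc (pr c N)).obj T.unop)).1
      (hS.exact.map_of_mono_of_preservesKernel
        (sheafToPresheaf c.pt.smallEtaleTopology AddCommGrpCat.{u + 1} ⋙
          (evaluation c.pt.Etaleᵒᵖ AddCommGrpCat.{u + 1}).obj (op ((EtCoh.bc (pr c N)).obj T.unop)))
        inferInstance inferInstance) y hy)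
    (fun T x => congrArg (fun t : S.X₁ ⟶ S.X₃ => (t.hom.app (op ((EtCoh.bc (pr c N)).obj T.unop))).hom x) S.zero)
    (h1 N VN κ Uf (isQcqsObj_bc_map i V hiN hV) hQq 0) (hsheaf _) (hsheaf _)
    (S.X₃.obj.map m.op z) sl hsl
  refine ⟨S.X₂.obj.map n.op t, ?_⟩
  refine (NatTrans.naturality_apply S.g.hom n.op t).trans ?_
  refine (congrArg (S.X₃.obj.map n.op).hom ht).trans ?_
  rw [← Functor.map_comp_apply, ← op_comp, hnm, op_id, CategoryTheory.Functor.map_id]
  rfl

theorem isLimAcyclic_X₃ (h1 : IsLimAcyclic c S.X₁) (h2 : IsLimAcyclic c S.X₂) : IsLimAcyclic c S.X₃ := by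
  intro m U _ κ _ Uf hU hUf p
  haveI : LocallySmall.{u + 1} (Xs.obj (op m)).Etale := ⟨fun _ _ => inferInstance⟩
  haveI := hS.mono_f
  haveI := hS.epi_g
  let S' := S.map (EtCoh.push (pr c m))
  exact CechSurjGen.isZero_cechH_quot S'.f.hom S'.g.hom
    (fun T => SiteBase.sheaf_app_injective S.f ((EtCoh.bc (pr c m)).obj T.unop))
    (fun T y hy => (SiteBase.secExact_iff S ((EtCoh.bc (pr c m)).obj T.unop)).1
      (hS.exact.map_of_mono_of_preservesKernel
        (sheafToPresheaf c.pt.smallEtaleTopology AddCommGrpCat.{u + 1} ⋙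
          (evaluation c.pt.Etaleᵒᵖ AddCommGrpCat.{u + 1}).obj (op ((EtCoh.bc (pr c m)).obj T.unop)))
        inferInstance inferInstance) y hy)
    (fun T x => congrArg (fun t : S.X₁ ⟶ S.X₃ => (t.hom.app (op ((EtCoh.bc (pr c m)).obj T.unop))).hom x) S.zero)
    p (h1 m U κ Uf hU hUf (p + 1)) (h2 m U κ Uf hU hUf p)
    (fun n i => sections_surjective hc hqc hqs S hS h1 _ (isQcqsObj_prod hU n _ fun k => hUf _))

omit hS

/-- Cartan's criterion on the limit -/
theorem subsingleton_H_of_isLimAcyclic (n : ℕ) (G : EtCoh.Ab c.pt) (hG : IsLimAcyclic c G) :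
    Subsingleton (EtCoh.H c.pt G (n + 1)) := by
  induction n generalizing G with
  | zero =>
    let S := ShortComplex.mk (Injective.ι G) (cokernel.π _) (cokernel.condition (Injective.ι G))
    have hS : S.ShortExact := { exact := ShortComplex.exact_of_g_is_cokernel _ (cokernelIsCokernel _) }
    refine subsingleton_of_forall_eq 0 fun x => ?_
    obtain ⟨z, rfl⟩ := Ext.covariant_sequence_exact₁ _ hS x
      (haveI : Injective S.X₂ := inferInstanceAs (Injective (Injective.under G)); Ext.eq_zero_of_injective _)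
      (rfl : 0 + 1 = 1)
    obtain ⟨φ, rfl⟩ := (Ext.mk₀_bijective _ _).2 z
    obtain ⟨m⟩ := ‹Nonempty ι›
    let adj := constantSheafAdj c.pt.smallEtaleTopology AddCommGrpCat.{u + 1} (EtCore.topIsTerminal c.pt)
    haveI := hqc (op m)
    haveI := hqs (op m)
    have hsurj := sections_surjective hc hqc hqs S hS hG (EtCoh.top (Xs.obj (op m)))
      ⟨hqc (op m), hqs (op m)⟩
    obtain ⟨a', ha'⟩ := hsurj (S.X₃.obj.map (EtCore.bcTopIso (pr c m)).hom.op (adj.homEquiv _ _ φ ⟨1⟩))
    let a := S.X₂.obj.map (EtCore.bcTopIso (pr c m)).inv.op a'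
    have ha : (S.g.hom.app (op (EtCoh.top c.pt))).hom a = adj.homEquiv _ _ φ ⟨1⟩ := by
      refine (NatTrans.naturality_apply S.g.hom (EtCore.bcTopIso (pr c m)).inv.op a').trans ?_
      refine (congrArg (S.X₃.obj.map (EtCore.bcTopIso (pr c m)).inv.op).hom ha').trans ?_
      rw [← Functor.map_comp_apply, ← op_comp, Iso.inv_hom_id, op_id, CategoryTheory.Functor.map_id]
      rfl
    have hφ : (adj.homEquiv _ _).symm ((AddCommGrpCat.uliftZMultiplesAddEquiv _).symm a) ≫ S.g = φ := by
      apply (adj.homEquiv _ _).injective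
      rw [Adjunction.homEquiv_naturality_right, Equiv.apply_symm_apply]
      apply (AddCommGrpCat.uliftZMultiplesAddEquiv _).injective
      refine Eq.trans ?_ ha
      exact congrArg (S.g.hom.app (op (EtCoh.top c.pt)))
        ((AddCommGrpCat.uliftZMultiplesAddEquiv _).apply_symm_apply a)
    rw [← hφ, ← Ext.mk₀_comp_mk₀, Ext.comp_assoc_of_second_deg_zero, hS.comp_extClass, Ext.comp_zero]
  | succ n ih =>
    let S := ShortComplex.mk (Injective.ι G) (cokernel.π _) (cokernel.condition (Injective.ι G))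
    have hS : S.ShortExact := { exact := ShortComplex.exact_of_g_is_cokernel _ (cokernelIsCokernel _) }
    haveI hI : Injective S.X₂ := inferInstanceAs (Injective (Injective.under G))
    refine subsingleton_of_forall_eq 0 fun x => ?_
    obtain ⟨z, rfl⟩ := Ext.covariant_sequence_exact₁ _ hS x (Ext.eq_zero_of_injective _) (rfl : (n + 1) + 1 = _)
    haveI := ih S.X₃ (isLimAcyclic_X₃ hc hqc hqs S hS hG (isLimAcyclic_of_injective S.X₂))
    rw [Subsingleton.elim z 0, Ext.zero_comp]

end Groth.Agent.EtLim8
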