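import Groth.Agent.EtLim8.Theta

/-!
# Coverings of the limit come from coverings of stages
-/

set_option autoImplicit false
set_option linter.style.haveILetI false
set_option linter.unusedSectionVars false
set_option linter.unusedVariables false
set_option backward.isDefEq.respectTransparency.types false

universe u

open CategoryTheory CategoryTheory.Limits AlgebraicGeometry Opposite

namespace Groth.Agent.EtLim8

open EtFound

variable {ι : Type u} [Preorder ι] [IsDirected ι (· ≤ ·)] {Xs : ιᵒᵖ ⥤ Scheme.{u}} {c : Cone Xs}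
  [hA : ∀ {a b : ιᵒᵖ} (h : a ⟶ b), IsAffineHom (Xs.map h)]

set_option maxHeartbeats 800000 in
/-- pieces at stages whose images cover the limit give a covering of a stage -/
theorem exists_stage_cover (hc : IsLimit c) {i : ι} (V : (Xs.obj (op i)).Etale) (hV : IsQcqsObj V)
    (P : ∀ (l : ι) (hil : i ≤ l) (A : (Xs.obj (op l)).Etale) (q : A ⟶ (EtCoh.bc (tr Xs hil)).obj V), Prop)
    (hP : ∀ x : ((EtCoh.bc (pr c i)).obj V).left, ∃ (l : ι) (hil : i ≤ l) (A : (Xs.obj (op l)).Etale)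
      (q : A ⟶ (EtCoh.bc (tr Xs hil)).obj V), IsQcqsObj A ∧ P l hil A q ∧
        (bcMap (tr Xs hil) (pr c l) (pr c i) (pr_tr c hil) V).base x ∈ Set.range q.left.base) :
    ∃ (N : ι) (hiN : i ≤ N) (κ : Type (u + 1)) (_ : Finite κ) (Q : κ → (Xs.obj (op N)).Etale)
      (p : ∀ x, Q x ⟶ (EtCoh.bc (tr Xs hiN)).obj V),
      (∀ x, IsQcqsObj (Q x)) ∧
      Sieve.ofArrows Q p ∈ (Xs.obj (op N)).smallEtaleTopology ((EtCoh.bc (tr Xs hiN)).obj V) ∧
      ∀ x, ∃ (l : ι) (hil : i ≤ l) (hlN : l ≤ N) (A : (Xs.obj (op l)).Etale)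
        (q : A ⟶ (EtCoh.bc (tr Xs hil)).obj V) (b : (Q x).left ⟶ A.left)
        (_ : b ≫ A.hom = (Q x).hom ≫ tr Xs hlN), P l hil A q ∧
          b ≫ q.left = (p x).left ≫ bcMap (tr Xs hil) (tr Xs hlN) (tr Xs hiN) (tr_comp Xs hil hlN) V := by
  haveI : Nonempty ι := ⟨i⟩
  choose lx hlx A q hAq hPA hxq using hP
  let Vi : ∀ {j : ι} (hij : i ≤ j), (Xs.obj (op j)).Etale := fun {j} hij => (EtCoh.bc (tr Xs hij)).obj V
  let π : ∀ {j : ι} (hij : i ≤ j), ((EtCoh.bc (pr c i)).obj V).left ⟶ (Vi hij).left :=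
    fun {j} hij => bcMap (tr Xs hij) (pr c j) (pr c i) (pr_tr c hij) V
  let τ : ∀ {j k : ι} (hij : i ≤ j) (hjk : j ≤ k), (Vi (hij.trans hjk)).left ⟶ (Vi hij).left :=
    fun {j k} hij hjk => bcMap (tr Xs hij) (tr Xs hjk) (tr Xs (hij.trans hjk)) (tr_comp Xs hij hjk) V
  haveI : CompactSpace ↥((EtCoh.bc (pr c i)).obj V).left := (isQcqsObj_bc_pr i V hc hV).1
  have hopen : ∀ x, IsOpen (Set.range (q x).left.base) := fun x => by
    haveI := etale_left (q x)
    exact (q x).left.isOpenMap.isOpen_range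
  obtain ⟨t, ht⟩ := isCompact_univ.elim_finite_subcover (fun x => (π (hlx x)).base ⁻¹' Set.range (q x).left.base)
    (fun x => (hopen x).preimage (π (hlx x)).continuous) (fun x _ => Set.mem_iUnion.2 ⟨x, hxq x⟩)
  obtain ⟨L, hiL, hL⟩ := exists_ge_all i (fun x : t => lx x.1)
  have hqV : ∀ {j : ι} (hij : i ≤ j), IsQcqsObj (Vi hij) := fun hij => isQcqsObj_bc_map i V hij hV
  let O : (Vi hiL).left.Opens := ⟨⋃ x : t, (τ (hlx x.1) (hL x)).base ⁻¹' Set.range (q x.1).left.base,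
    isOpen_iUnion fun x => (hopen x.1).preimage (τ (hlx x.1) (hL x)).continuous⟩
  obtain ⟨N, hLN, hN⟩ := exists_stage_top L (Vi hiL) hc (hqV hiL) O (fun z => by
    let g : ((EtCoh.bc (pr c L)).obj (Vi hiL)).left ⟶ ((EtCoh.bc (pr c i)).obj V).left :=
      pullback.lift (bcFst (pr c L) _ ≫ bcFst (tr Xs hiL) V) ((EtCoh.bc (pr c L)).obj (Vi hiL)).hom
        (by rw [Category.assoc, bcFst_w, ← Category.assoc, bcFst_w, Category.assoc, pr_tr])
    have hg : g ≫ π hiL = bcFst (pr c L) (Vi hiL) := by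
      refine bc_hom_ext ?_ ?_
      · rw [Category.assoc, bcMap_fst]
        exact pullback.lift_fst _ _ _
      · rw [Category.assoc, bcMap_w, bcFst_w]
        exact (Category.assoc _ _ _).symm.trans (congrArg (· ≫ pr c L) (pullback.lift_snd _ _ _))
    obtain ⟨y, hy, hzy⟩ := Set.mem_iUnion₂.1 (ht (Set.mem_univ (g.base z)))
    refine Set.mem_iUnion.2 ⟨⟨y, hy⟩, ?_⟩
    have e : π hiL ≫ τ (hlx y) (hL ⟨y, hy⟩) = π (hlx y) := bcMap_bcMap _ V _ (pr_tr c _) _
    rw [Set.mem_preimage, ← hg, ← Scheme.Hom.comp_apply, Category.assoc, e, Scheme.Hom.comp_apply]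
    exact hzy)
  have hiN : i ≤ N := hiL.trans hLN
  have hQex := fun x : t => exists_qcqs_pullback ((hL x).trans hLN) (q x.1) (τ (hlx x.1) ((hL x).trans hLN))
    (bcMap_w (tr_comp Xs (hlx x.1) ((hL x).trans hLN)) V) (hAq x.1) (hqV _) (hqV _)
  choose Q p b wb hQ hQq using hQex
  refine ⟨N, hiN, ULift.{u + 1} t, inferInstance, fun x => Q x.down, fun x => p x.down, fun x => hQq x.down, ?_,
    fun x => ⟨lx x.down.1, hlx _, (hL x.down).trans hLN, A _, q _, b x.down, wb _, hPA _, (hQ x.down).w⟩⟩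
  refine (mem_topology_iff _).2 fun z => ?_
  let r : (Vi hiN).left ⟶ ((EtCoh.bc (tr Xs hLN)).obj (Vi hiL)).left :=
    pullback.lift (τ hiL hLN) (Vi hiN).hom (bcMap_w _ V)
  have e : r ≫ bcFst (tr Xs hLN) (Vi hiL) = τ hiL hLN := pullback.lift_fst _ _ _
  have hz : (τ hiL hLN).base z ∈ O := by
    rw [← e, Scheme.Hom.comp_apply]
    exact hN (r.base z)
  obtain ⟨x, w, hw⟩ := Set.mem_iUnion.1 hz
  have e2 : τ hiL hLN ≫ τ (hlx x.1) (hL x) = τ (hlx x.1) ((hL x).trans hLN) :=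
    bcMap_bcMap _ V _ (tr_comp Xs (hL x) hLN) _
  obtain ⟨z', -, hz'⟩ := exists_point_of_isPullback (hQ x) w z (by
    rw [hw, ← Scheme.Hom.comp_apply, e2])
  exact ⟨_, p x, z', Sieve.ofArrows_mk _ _ (⟨x⟩ : ULift.{u + 1} t), hz'⟩

end Groth.Agent.EtLim8
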