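import Groth.Agent.EtLim8.Sys
import Groth.Agent.EtFound.QcqsObjects
import Groth.Agent.S0591
import Groth.Agent.S9192

/-!
# Étale objects over an inverse system of schemes and their limit
-/

set_option autoImplicit false
set_option linter.unusedSectionVars false
set_option linter.unusedVariables false
set_option linter.style.haveILetI false
set_option backward.isDefEq.respectTransparency.types false

universe u

open CategoryTheory CategoryTheory.Limits AlgebraicGeometry Opposite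

namespace Groth.Agent.EtLim8

open EtFound

section compBc

variable {X Y Z : Scheme.{u}}

/-- the comparison between base changes along composable morphisms -/
noncomputable def bcMap (t₁ : Y ⟶ X) (t₂ : Z ⟶ Y) (t₃ : Z ⟶ X) (hw : t₂ ≫ t₁ = t₃) (V : X.Etale) :
    ((EtCoh.bc t₃).obj V).left ⟶ ((EtCoh.bc t₁).obj V).left :=
  pullback.lift (bcFst t₃ V) (((EtCoh.bc t₃).obj V).hom ≫ t₂)
    ((bcFst_w t₃ V).trans ((congrArg (_ ≫ ·) hw.symm).trans (Category.assoc _ _ _).symm))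

variable {t₁ : Y ⟶ X} {t₂ : Z ⟶ Y} {t₃ : Z ⟶ X} (hw : t₂ ≫ t₁ = t₃) (V : X.Etale)

@[reassoc (attr := simp)]
theorem bcMap_fst : bcMap t₁ t₂ t₃ hw V ≫ bcFst t₁ V = bcFst t₃ V := pullback.lift_fst _ _ _

theorem bcMap_w : bcMap t₁ t₂ t₃ hw V ≫ ((EtCoh.bc t₁).obj V).hom = ((EtCoh.bc t₃).obj V).hom ≫ t₂ :=
  pullback.lift_snd _ _ _

theorem bcMap_id (t : Y ⟶ X) (u : Y ⟶ Y) (hu : u = 𝟙 Y) (w : u ≫ t = t) (V : X.Etale) :
    bcMap t u t w V = 𝟙 _ := by
  refine pullback.hom_ext ((bcMap_fst _ V).trans (Category.id_comp _).symm) ?_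
  exact (bcMap_w _ V).trans ((congrArg (_ ≫ ·) hu).trans ((Category.comp_id _).trans (Category.id_comp _).symm))

theorem bcMap_bcMap {W : Scheme.{u}} {t₄ : W ⟶ Z} {t₅ : W ⟶ X} {t₆ : W ⟶ Y} (h₄ : t₄ ≫ t₃ = t₅) (h₆ : t₄ ≫ t₂ = t₆)
    (h₅ : t₆ ≫ t₁ = t₅) : bcMap t₃ t₄ t₅ h₄ V ≫ bcMap t₁ t₂ t₃ hw V = bcMap t₁ t₆ t₅ h₅ V := by
  refine pullback.hom_ext ?_ ?_
  · refine (Category.assoc _ _ _).trans (Eq.trans ?_ (bcMap_fst h₅ V).symm)
    exact (congrArg (_ ≫ ·) (bcMap_fst hw V)).trans (bcMap_fst h₄ V)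
  · refine (Category.assoc _ _ _).trans (Eq.trans ?_ (bcMap_w h₅ V).symm)
    refine (congrArg (_ ≫ ·) (bcMap_w hw V)).trans ?_
    refine (Category.assoc _ _ _).symm.trans ?_
    refine (congrArg (· ≫ t₂) (bcMap_w h₄ V)).trans ?_
    exact (Category.assoc _ _ _).trans (congrArg (_ ≫ ·) h₆)

end compBc

variable {ι : Type u} [Preorder ι] [IsDirected ι (· ≤ ·)] {Xs : ιᵒᵖ ⥤ Scheme.{u}} {c : Cone Xs}

instance isCofiltered_op [Nonempty ι] : IsCofiltered ιᵒᵖ := inferInstance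

section diagram

variable (i : ι) (V : (Xs.obj (op i)).Etale)

omit [IsDirected ι (· ≤ ·)] in
theorem map_over_w {j k : Over (op i)} (f : j ⟶ k) : Xs.map f.left ≫ Xs.map k.hom = Xs.map j.hom := by
  rw [← Functor.map_comp, Over.w f]

/-- the base changes of `V` -/
noncomputable def bcDiagram : Over (op i) ⥤ Scheme.{u} where
  obj j := ((EtCoh.bc (Xs.map j.hom)).obj V).left
  map {j k} f := bcMap (Xs.map k.hom) (Xs.map f.left) (Xs.map j.hom) (map_over_w i f) V
  map_id j := bcMap_id _ _ (by rw [Over.id_left, CategoryTheory.Functor.map_id]) _ V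
  map_comp {j k l} f g := (bcMap_bcMap _ V _ (by rw [Over.comp_left, Functor.map_comp]) _).symm

variable (c)

/-- the cone over the base changes of `V` -/
noncomputable def bcCone : Cone (bcDiagram i V) where
  pt := ((EtCoh.bc (pr c i)).obj V).left
  π :=
    { app := fun j => bcMap (Xs.map j.hom) (c.π.app j.left) (pr c i) (c.w j.hom) V
      naturality := fun j k f => (Category.id_comp _).trans (bcMap_bcMap (map_over_w i f) V _ (c.w f.left) _).symm }

/-- the projection to the diagram -/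
noncomputable def bcDiagramSnd : bcDiagram i V ⟶ Over.forget (op i) ⋙ Xs where
  app j := ((EtCoh.bc (Xs.map j.hom)).obj V).hom
  naturality _ _ f := bcMap_w (map_over_w i f) V

variable {c}

/-- `V ×_{X_i} X` is the limit of the base changes of `V` -/
noncomputable def isLimitBcCone [Nonempty ι] (hc : IsLimit c) : IsLimit (bcCone c i V) :=
  haveI : IsConnected (Over (op i)) := isConnected_of_hasTerminal _
  isLimitOfIsPullbackOfIsConnected (bcDiagramSnd i V) (bcCone c i V) (c.whisker (Over.forget (op i)))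
    { hom := (((EtCoh.bc (pr c i)).obj V).hom : ((EtCoh.bc (pr c i)).obj V).left ⟶ c.pt)
      w := fun j => (bcMap_w (c.w j.hom) V).symm }
    (fun j => IsPullback.of_right
      (h₁₁ := bcMap (Xs.map j.hom) (c.π.app j.left) (pr c i) (c.w j.hom) V)
      (h₁₂ := bcFst (Xs.map j.hom) V) (h₂₁ := c.π.app j.left) (h₂₂ := Xs.map j.hom) (v₁₃ := V.hom)
      (v₁₁ := (((EtCoh.bc (pr c i)).obj V).hom : ((EtCoh.bc (pr c i)).obj V).left ⟶ c.pt))
      (by
        rw [bcMap_fst, c.w j.hom]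
        exact isPullback_bcFst (pr c i) V)
      (bcMap_w (c.w j.hom) V) (isPullback_bcFst (Xs.map j.hom) V))
    ((Functor.Initial.isLimitWhiskerEquiv (Over.forget (op i)) c).symm hc)

variable [hA : ∀ {a b : ιᵒᵖ} (h : a ⟶ b), IsAffineHom (Xs.map h)]

instance isAffineHom_bcDiagram {j k : Over (op i)} (f : j ⟶ k) : IsAffineHom ((bcDiagram i V).map f) := by
  refine MorphismProperty.of_isPullback (P := @IsAffineHom) (IsPullback.of_right
    (h₁₁ := bcMap (Xs.map k.hom) (Xs.map f.left) (Xs.map j.hom) (map_over_w i f) V)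
    (h₁₂ := bcFst (Xs.map k.hom) V) (h₂₁ := Xs.map f.left) (h₂₂ := Xs.map k.hom) (v₁₃ := V.hom)
    (v₁₁ := ((EtCoh.bc (Xs.map j.hom)).obj V).hom)
    ?_ (bcMap_w _ V) (isPullback_bcFst (Xs.map k.hom) V)).flip (hA f.left)
  rw [bcMap_fst, map_over_w i f]
  exact isPullback_bcFst (Xs.map j.hom) V

theorem isQcqsObj_bc_map {j : ι} (h : i ≤ j) (hV : IsQcqsObj V) :
    IsQcqsObj ((EtCoh.bc (tr Xs h)).obj V) := by
  obtain ⟨h₁, h₂⟩ := hV
  haveI : IsAffineHom (bcFst (tr Xs h) V) := MorphismProperty.pullback_fst _ _ (hA _)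
  exact ⟨QuasiCompact.compactSpace_of_compactSpace (bcFst (tr Xs h) V),
    quasiSeparatedSpace_of_quasiSeparated (bcFst (tr Xs h) V)⟩

theorem isQcqsObj_bc_pr [Nonempty ι] (hc : IsLimit c) (hV : IsQcqsObj V) :
    IsQcqsObj ((EtCoh.bc (pr c i)).obj V) := by
  obtain ⟨h₁, h₂⟩ := hV
  haveI : IsAffineHom (bcFst (pr c i) V) :=
    MorphismProperty.pullback_fst _ _ (isAffineHom_π_app Xs c hc (op i))
  exact ⟨QuasiCompact.compactSpace_of_compactSpace (bcFst (pr c i) V),
    quasiSeparatedSpace_of_quasiSeparated (bcFst (pr c i) V)⟩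

theorem compactSpace_bcDiagram (hV : IsQcqsObj V) (j : Over (op i)) :
    CompactSpace ↥((bcDiagram i V).obj j) := by
  exact (isQcqsObj_bc_map i V (leOfHom j.hom.unop) hV).1

/-- an open containing the image of the limit contains the image of a stage -/
theorem exists_stage_top [Nonempty ι] (hc : IsLimit c) (hV : IsQcqsObj V) (O : V.left.Opens)
    (hO : ∀ x : ((EtCoh.bc (pr c i)).obj V).left, (bcFst (pr c i) V).base x ∈ O) :
    ∃ (j : ι) (h : i ≤ j), ∀ x : ((EtCoh.bc (tr Xs h)).obj V).left, (bcFst (tr Xs h) V).base x ∈ O := by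
  haveI := compactSpace_bcDiagram i V hV
  let j₀ : Over (op i) := Over.mk (𝟙 (op i))
  let O₀ : ((bcDiagram i V).obj j₀).Opens := bcFst (Xs.map j₀.hom) V ⁻¹ᵁ O
  obtain ⟨j, f, hj⟩ := exists_map_eq_top (bcDiagram i V) (bcCone c i V) (isLimitBcCone i V hc) O₀ (by
    refine eq_top_iff.2 fun x _ => ?_
    have e : (bcCone c i V).π.app j₀ ≫ bcFst (Xs.map j₀.hom) V = bcFst (pr c i) V := bcMap_fst (c.w j₀.hom) V
    have := hO x
    rw [← e] at this
    exact this)
  refine ⟨j.left.unop, leOfHom j.hom.unop, fun x => ?_⟩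
  have e : (bcDiagram i V).map f ≫ bcFst (Xs.map j₀.hom) V = bcFst (Xs.map j.hom) V := bcMap_fst (map_over_w i f) V
  have h1 : (bcFst (Xs.map j.hom) V).base x ∈ O := by
    rw [← e]
    exact hj.ge (Set.mem_univ x)
  exact h1

/-- the limit has the topology generated by the affine opens of the stages -/
theorem exists_affine_nhd [Nonempty ι] (hc : IsLimit c) (O : ((EtCoh.bc (pr c i)).obj V).left.Opens)
    (x : ((EtCoh.bc (pr c i)).obj V).left) (hx : x ∈ O) :
    ∃ (j : ι) (h : i ≤ j) (A : ((EtCoh.bc (tr Xs h)).obj V).left.Opens), IsAffineOpen A ∧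
      (bcMap (tr Xs h) (pr c j) (pr c i) (pr_tr c h) V).base x ∈ A ∧
      ∀ y, (bcMap (tr Xs h) (pr c j) (pr c i) (pr_tr c h) V).base y ∈ A → y ∈ O := by
  obtain ⟨_, ⟨j, A, hA', rfl⟩, hxA, hAO⟩ := TopologicalSpace.Opens.isBasis_iff_nbhd.mp
    (isBasis_preimage_isAffineOpen (bcDiagram i V) (bcCone c i V) (isLimitBcCone i V hc)) hx
  exact ⟨j.left.unop, leOfHom j.hom.unop, A, hA', hxA, fun y hy => hAO hy⟩

end diagram

end Groth.Agent.EtLim8

namespace Groth.Agent.EtLim8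

open EtFound

variable {ι : Type u} [Preorder ι] [IsDirected ι (· ≤ ·)] [Nonempty ι] {Xs : ιᵒᵖ ⥤ Scheme.{u}} {c : Cone Xs}
  [hA : ∀ {a b : ιᵒᵖ} (h : a ⟶ b), IsAffineHom (Xs.map h)]

theorem quasiSeparatedSpace_pt (hc : IsLimit c) (hqs : ∀ a, QuasiSeparatedSpace ↥(Xs.obj a)) :
    QuasiSeparatedSpace ↥c.pt := by
  obtain ⟨i⟩ := ‹Nonempty ι›
  haveI := isAffineHom_π_app Xs c hc (op i)
  exact quasiSeparatedSpace_of_quasiSeparated (c.π.app (op i))

/-- an affine étale scheme over the limit comes from a stage -/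
theorem exists_stage_model (hc : IsLimit c) (hqc : ∀ a, CompactSpace ↥(Xs.obj a))
    (hqs : ∀ a, QuasiSeparatedSpace ↥(Xs.obj a)) (W : c.pt.Etale) [IsAffine W.left] :
    ∃ (j : ι) (A : (Xs.obj (op j)).Etale) (a : W.left ⟶ A.left),
      IsPullback a W.hom A.hom (pr c j) ∧ IsQcqsObj A := by
  haveI := quasiSeparatedSpace_pt hc hqs
  haveI : AlgebraicGeometry.Etale W.hom := W.prop
  haveI : CompactSpace ↥((𝟭 Scheme).obj W.left) := (isQcqsObj_of_isAffine W).1
  haveI : QuasiSeparatedSpace ↥((𝟭 Scheme).obj W.left) := (isQcqsObj_of_isAffine W).2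
  haveI : QuasiSeparatedSpace ↥((Functor.fromPUnit c.pt).obj W.right) := quasiSeparatedSpace_pt hc hqs
  haveI : QuasiCompact W.hom := quasiCompact_of_compactSpace W.hom
  haveI : QuasiSeparated W.hom := QuasiSeparated.of_quasiSeparatedSpace W.hom
  haveI : ∀ (a b : ιᵒᵖ) (f : a ⟶ b), IsAffineHom (Xs.map f) := fun a b f => hA f
  haveI := hqc
  haveI := hqs
  obtain ⟨i, Xi, fi, g, hlfp, hqcf, hqsf, sq⟩ := Groth.Agent.S0591.result Xs c hc W.left W.hom
  haveI := hlfp
  haveI := hqcf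
  haveI := hqsf
  haveI : CompactSpace Xi := QuasiCompact.compactSpace_of_compactSpace fi
  haveI : QuasiSeparatedSpace Xi := quasiSeparatedSpace_of_quasiSeparated fi
  haveI : IsIso (𝟙 c.pt) := inferInstance
  obtain ⟨j, φ, Xj, Yj, fj, gj, pY, pX, hY, hX, hfj⟩ := Groth.Agent.S9192.result Xs c hc i fi (𝟙 (Xs.obj i))
    W.hom (𝟙 c.pt) (c.π.app i) g (IsPullback.id_vert (c.π.app i)) sq
  haveI := hfj
  haveI : IsIso gj := hY.isIso_snd_of_isIso
  have hsq : IsPullback pX (fj ≫ gj) fi (Xs.map φ) := by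
    simpa using hX.paste_vert hY
  haveI : AlgebraicGeometry.Etale (fj ≫ gj) := inferInstance
  let a : W.left ⟶ Xj := hsq.lift g (W.hom ≫ c.π.app j)
    (sq.w.trans ((congrArg (W.hom ≫ ·) (c.w φ).symm).trans (Category.assoc _ _ _).symm))
  have h : IsPullback a W.hom (fj ≫ gj) (c.π.app j) := by
    refine IsPullback.of_right (h₁₁ := a) (h₁₂ := pX) (h₂₂ := Xs.map φ) (v₁₃ := fi) ?_ (hsq.lift_snd _ _ _) hsq
    rw [hsq.lift_fst, c.w φ]
    exact sq
  haveI : IsAffineHom pX := MorphismProperty.of_isPullback (P := @IsAffineHom) hsq.flip (hA φ)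
  refine ⟨j.unop, Scheme.Etale.mk (fj ≫ gj), a, h, ?_⟩
  show CompactSpace ↥Xj ∧ QuasiSeparatedSpace ↥Xj
  exact ⟨QuasiCompact.compactSpace_of_compactSpace pX, quasiSeparatedSpace_of_quasiSeparated pX⟩

end Groth.Agent.EtLim8
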