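import Groth.Agent.EtLim8.Colim

/-!
# Morphisms of systems and the diagram of a unital system
-/

set_option autoImplicit false
set_option linter.style.haveILetI false
set_option linter.unusedSectionVars false
set_option linter.unusedVariables false
set_option backward.isDefEq.respectTransparency.types false

universe u

open CategoryTheory CategoryTheory.Limits AlgebraicGeometry Opposite

namespace Groth.Agent.EtLim8

section cmp

variable {X Y Z : Scheme.{u}} (t₁ : Y ⟶ X) (t₂ : Z ⟶ Y) (t₃ : Z ⟶ X) (hw : t₂ ≫ t₁ = t₃)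

include hw in
/-- the two projections `bc t₂ (bc t₁ V) → V` over `t₃` -/
theorem cmp_w (V : X.Etale) : (bcFst t₂ ((EtCoh.bc t₁).obj V) ≫ bcFst t₁ V) ≫ V.hom =
    ((EtCoh.bc t₂).obj ((EtCoh.bc t₁).obj V)).hom ≫ t₃ := by
  rw [Category.assoc, bcFst_w, ← Category.assoc, bcFst_w, Category.assoc]
  exact congrArg (_ ≫ ·) hw

/-- base change in two steps -/
noncomputable def bcCmp (V : X.Etale) :
    (EtCoh.bc t₂).obj ((EtCoh.bc t₁).obj V) ≅ (EtCoh.bc t₃).obj V where
  hom := liftBc t₃ (bcFst t₂ ((EtCoh.bc t₁).obj V) ≫ bcFst t₁ V) (cmp_w t₁ t₂ t₃ hw V)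
  inv := liftBc t₂ (pullback.lift (bcFst t₃ V) (((EtCoh.bc t₃).obj V).hom ≫ t₂)
    ((bcFst_w t₃ V).trans ((congrArg (_ ≫ ·) hw.symm).trans (Category.assoc _ _ _).symm))) (pullback.lift_snd _ _ _)
  hom_inv_id := by
    refine hom_bc_ext ?_
    refine (Category.assoc _ _ _).trans ((congrArg (_ ≫ ·) (liftBc_fst _ _ _)).trans ?_)
    refine Eq.trans ?_ (Category.id_comp _).symm
    refine pullback.hom_ext ?_ ?_
    · refine (Category.assoc _ _ _).trans ((congrArg (_ ≫ ·) (pullback.lift_fst _ _ _)).trans ?_)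
      exact liftBc_fst _ _ _
    · refine (Category.assoc _ _ _).trans ((congrArg (_ ≫ ·) (pullback.lift_snd _ _ _)).trans ?_)
      refine (Category.assoc _ _ _).symm.trans ?_
      refine (congrArg (· ≫ t₂) (MorphismProperty.Over.w _)).trans ?_
      exact (bcFst_w t₂ ((EtCoh.bc t₁).obj V)).symm
  inv_hom_id := by
    refine hom_bc_ext ?_
    refine (Category.assoc _ _ _).trans ((congrArg (_ ≫ ·) (liftBc_fst _ _ _)).trans ?_)
    refine (Category.assoc _ _ _).symm.trans ?_
    refine (congrArg (· ≫ bcFst t₁ V) (liftBc_fst _ _ _)).trans ?_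
    exact (pullback.lift_fst _ _ _).trans (Category.id_comp _).symm

theorem bcCmp_natural {V W : X.Etale} (g : V ⟶ W) :
    (EtCoh.bc t₂).map ((EtCoh.bc t₁).map g) ≫ (bcCmp t₁ t₂ t₃ hw W).hom =
      (bcCmp t₁ t₂ t₃ hw V).hom ≫ (EtCoh.bc t₃).map g := by
  refine hom_bc_ext ?_
  refine (Category.assoc _ _ _).trans ((congrArg (_ ≫ ·) (liftBc_fst _ _ _)).trans ?_)
  refine Eq.trans ?_ (Category.assoc _ _ _).symm
  refine Eq.trans ?_ (congrArg (_ ≫ ·) (EtCoh.isPullback_bc_map t₃ g).w).symm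
  refine Eq.trans ?_ (Category.assoc _ _ _)
  refine Eq.trans ?_ (congrArg (· ≫ g.left) (liftBc_fst _ _ _)).symm
  refine (Category.assoc _ _ _).symm.trans ?_
  refine (congrArg (· ≫ bcFst t₁ W) (EtCoh.isPullback_bc_map t₂ ((EtCoh.bc t₁).map g)).w).trans ?_
  refine (Category.assoc _ _ _).trans ((congrArg (_ ≫ ·) (EtCoh.isPullback_bc_map t₁ g).w).trans ?_)
  exact (Category.assoc _ _ _).symm

/-- direct image in two steps -/
noncomputable def pushCmp (K : EtCoh.Ab Z) :
    (EtCoh.push t₃).obj K ≅ (EtCoh.push t₁).obj ((EtCoh.push t₂).obj K) where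
  hom := ObjectProperty.homMk
    { app := fun V => K.obj.map (bcCmp t₁ t₂ t₃ hw V.unop).hom.op
      naturality := fun V W g => AddCommGrpCat.hom_ext (AddMonoidHom.ext fun s => by
        change K.obj.map (bcCmp t₁ t₂ t₃ hw W.unop).hom.op (K.obj.map ((EtCoh.bc t₃).map g.unop).op s) =
          K.obj.map ((EtCoh.bc t₂).map ((EtCoh.bc t₁).map g.unop)).op (K.obj.map (bcCmp t₁ t₂ t₃ hw V.unop).hom.op s)
        rw [← Functor.map_comp_apply, ← Functor.map_comp_apply, ← op_comp, ← op_comp, bcCmp_natural]) }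
  inv := ObjectProperty.homMk
    { app := fun V => K.obj.map (bcCmp t₁ t₂ t₃ hw V.unop).inv.op
      naturality := fun V W g => AddCommGrpCat.hom_ext (AddMonoidHom.ext fun s => by
        change K.obj.map (bcCmp t₁ t₂ t₃ hw W.unop).inv.op
            (K.obj.map ((EtCoh.bc t₂).map ((EtCoh.bc t₁).map g.unop)).op s) =
          K.obj.map ((EtCoh.bc t₃).map g.unop).op (K.obj.map (bcCmp t₁ t₂ t₃ hw V.unop).inv.op s)
        have e : (bcCmp t₁ t₂ t₃ hw W.unop).inv ≫ (EtCoh.bc t₂).map ((EtCoh.bc t₁).map g.unop) =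
            (EtCoh.bc t₃).map g.unop ≫ (bcCmp t₁ t₂ t₃ hw V.unop).inv := by
          rw [Iso.inv_comp_eq, ← Category.assoc, Iso.eq_comp_inv, bcCmp_natural]
        rw [← Functor.map_comp_apply, ← Functor.map_comp_apply, ← op_comp, ← op_comp, e]) }
  hom_inv_id := Sheaf.hom_ext (NatTrans.ext (funext fun V => AddCommGrpCat.hom_ext (AddMonoidHom.ext fun s => by
    change K.obj.map (bcCmp t₁ t₂ t₃ hw V.unop).inv.op (K.obj.map (bcCmp t₁ t₂ t₃ hw V.unop).hom.op s) = s
    rw [← Functor.map_comp_apply, ← op_comp, Iso.inv_hom_id, op_id, CategoryTheory.Functor.map_id]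
    rfl)))
  inv_hom_id := Sheaf.hom_ext (NatTrans.ext (funext fun V => AddCommGrpCat.hom_ext (AddMonoidHom.ext fun s => by
    change K.obj.map (bcCmp t₁ t₂ t₃ hw V.unop).hom.op (K.obj.map (bcCmp t₁ t₂ t₃ hw V.unop).inv.op s) = s
    rw [← Functor.map_comp_apply, ← op_comp, Iso.hom_inv_id, op_id, CategoryTheory.Functor.map_id]
    rfl)))

theorem pushCmp_natural {K K' : EtCoh.Ab Z} (η : K ⟶ K') :
    (EtCoh.push t₃).map η ≫ (pushCmp t₁ t₂ t₃ hw K').hom =
      (pushCmp t₁ t₂ t₃ hw K).hom ≫ (EtCoh.push t₁).map ((EtCoh.push t₂).map η) :=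
  Sheaf.hom_ext (NatTrans.ext (funext fun V => (η.hom.naturality (bcCmp t₁ t₂ t₃ hw V.unop).hom.op).symm))

variable {t₁ t₂ t₃} {F : EtCoh.Ab X} {G : EtCoh.Ab Y} {K : EtCoh.Ab Z}
  (l₁ : F ⟶ (EtCoh.push t₁).obj G) (l₂ : G ⟶ (EtCoh.push t₂).obj K) (l₃ : F ⟶ (EtCoh.push t₃).obj K)

/-- compatibility as an equality of morphisms -/
theorem compat_iff : Compat l₁ l₂ l₃ ↔ l₁ ≫ (EtCoh.push t₁).map l₂ = l₃ ≫ (pushCmp t₁ t₂ t₃ hw K).hom := by
  constructor
  · intro h
    refine Sheaf.hom_ext (NatTrans.ext (funext fun V => AddCommGrpCat.hom_ext (AddMonoidHom.ext fun s => ?_)))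
    have := h V.unop _ _ _ (bcFst_w t₁ V.unop) _ (bcFst_w t₂ ((EtCoh.bc t₁).obj V.unop)) _
      (cmp_w t₁ t₂ t₃ hw V.unop) rfl s
    rw [res_bcFst, res_bcFst] at this
    exact this
  · intro h
    refine Compat.mk hw fun V s we => ?_
    exact congrArg (fun r : F ⟶ (EtCoh.push t₁).obj ((EtCoh.push t₂).obj K) => (r.hom.app (op V)).hom s) h

end cmp

variable {ι : Type u} [Preorder ι] {Xs : ιᵒᵖ ⥤ Scheme.{u}}

/-- the canonical map `F ⟶ t_* F` for the identity transition -/
noncomputable def pushId (i : ι) (F : EtCoh.Ab (Xs.obj (op i))) : F ⟶ (EtCoh.push (tr Xs (le_refl i))).obj F :=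
  ObjectProperty.homMk
    { app := fun V => F.obj.map (MorphismProperty.Over.homMk (bcFst (tr Xs (le_refl i)) V.unop)
        ((bcFst_w _ _).trans ((congrArg (_ ≫ ·) (tr_refl Xs i)).trans (Category.comp_id _))) trivial :
          (EtCoh.bc (tr Xs (le_refl i))).obj V.unop ⟶ V.unop).op
      naturality := fun V W g => AddCommGrpCat.hom_ext (AddMonoidHom.ext fun s => by
        change F.obj.map _ (F.obj.map g s) = F.obj.map _ (F.obj.map _ s)
        rw [← Functor.map_comp_apply, ← Functor.map_comp_apply]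
        refine congrArg (fun r : V ⟶ op _ => (F.obj.map r).hom s) (Quiver.Hom.unop_inj
          (MorphismProperty.Over.Hom.ext ?_))
        exact (EtCoh.isPullback_bc_map (tr Xs (le_refl i)) g.unop).w.symm) }

theorem pushId_natural (i : ι) {F F' : EtCoh.Ab (Xs.obj (op i))} (η : F ⟶ F') :
    pushId i F ≫ (EtCoh.push (tr Xs (le_refl i))).map η = η ≫ pushId i F' :=
  Sheaf.hom_ext (NatTrans.ext (funext fun V => η.hom.naturality _))

theorem isUnital_iff (S : Sys Xs) : S.IsUnital ↔ ∀ i, S.l (le_refl i) = pushId i (S.F i) := by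
  constructor
  · intro h i
    refine hom_ext_res fun V s => ?_
    refine (h i V _ (MorphismProperty.Over.homMk (bcFst (tr Xs (le_refl i)) V)
      ((bcFst_w _ _).trans ((congrArg (_ ≫ ·) (tr_refl Xs i)).trans (Category.comp_id _))) trivial)
      (bcFst_w _ V) s).trans ?_
    exact (res_bcFst (pushId i (S.F i)) V s).symm
  · intro h i V W g w s
    rw [h i]
    change (S.F i).obj.map (liftBc _ g.left w).op ((S.F i).obj.map _ s) = _
    refine (Functor.map_comp_apply _ _ _ _).symm.trans ?_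
    exact congrArg (fun r : W ⟶ V => ((S.F i).obj.map r.op).hom s)
      (MorphismProperty.Over.Hom.ext (liftBc_fst _ _ _))

/-- morphisms of systems -/
@[ext]
structure SysHom (S S' : Sys Xs) where
  app : ∀ i, S.F i ⟶ S'.F i
  comm : ∀ ⦃i j : ι⦄ (h : i ≤ j), app i ≫ S'.l h = S.l h ≫ (EtCoh.push (tr Xs h)).map (app j)

variable [IsDirected ι (· ≤ ·)] [Nonempty ι] {c : Cone Xs}

variable (c) in
/-- the transition morphism between inverse images on the limit -/
noncomputable def Sys.pullMap (S : Sys Xs) {i j : ι} (h : i ≤ j) :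
    (EtCoh.pull (pr c i)).obj (S.F i) ⟶ (EtCoh.pull (pr c j)).obj (S.F j) :=
  ((EtCoh.pullPushAdj (pr c i)).homEquiv _ _).symm (S.l h ≫
    (EtCoh.push (tr Xs h)).map ((EtCoh.pullPushAdj (pr c j)).unit.app (S.F j)) ≫
    (pushCmp (tr Xs h) (pr c j) (pr c i) (pr_tr c h) _).inv)

theorem Sys.compat_pullMap (S : Sys Xs) {i j : ι} (h : i ≤ j) :
    Compat (S.l h) ((EtCoh.pullPushAdj (pr c j)).unit.app (S.F j))
      ((EtCoh.pullPushAdj (pr c i)).homEquiv _ _ (S.pullMap c h)) := by
  rw [compat_iff (pr_tr c h), Sys.pullMap, Equiv.apply_symm_apply, Category.assoc, Category.assoc,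
    Iso.inv_hom_id, Category.comp_id]

theorem Sys.pullMap_unique (S : Sys Xs) {i j : ι} (h : i ≤ j)
    (m : (EtCoh.pull (pr c i)).obj (S.F i) ⟶ (EtCoh.pull (pr c j)).obj (S.F j))
    (hm : Compat (S.l h) ((EtCoh.pullPushAdj (pr c j)).unit.app (S.F j))
      ((EtCoh.pullPushAdj (pr c i)).homEquiv _ _ m)) : S.pullMap c h = m :=
  ((EtCoh.pullPushAdj (pr c i)).homEquiv _ _).injective
    (Compat.unique (pr_tr c h) (S.compat_pullMap h) hm)

variable (c) in
/-- the diagram on the limit of a unital system -/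
noncomputable def Sys.diag (S : Sys Xs) (hU : S.IsUnital) : Diag S c where
  G :=
    { obj := fun i => (EtCoh.pull (pr c i)).obj (S.F i)
      map := fun h => S.pullMap c (leOfHom h)
      map_id := fun i => S.pullMap_unique _ _ (by
        intro V W W' a w b w' e we hbe s
        rw [Adjunction.homEquiv_id]
        let g : W ⟶ V := MorphismProperty.Over.homMk a
          (w.trans ((congrArg (_ ≫ ·) (tr_refl Xs i)).trans (Category.comp_id _))) trivial
        rw [show res _ (S.l (leOfHom (𝟙 i))) a w s = (S.F i).obj.map g.op s from hU i V W g w s]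
        exact res_map_left _ b w' g e hbe we s)
      map_comp := fun {i j k} h h' => S.pullMap_unique _ _ (by
        intro V W W' a w b w' e we hbe s
        let V' := (EtCoh.bc (tr Xs (leOfHom h))).obj V
        let a' : W.left ⟶ V'.left := pullback.lift a (W.hom ≫ tr Xs (leOfHom h'))
          (by rw [Category.assoc, tr_comp]; exact w)
        have wa' : a' ≫ V'.hom = W.hom ≫ tr Xs (leOfHom h') := pullback.lift_snd _ _ _
        have ha' : a' ≫ bcFst _ V = a := pullback.lift_fst _ _ _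
        have we' : (b ≫ a') ≫ V'.hom = W'.hom ≫ pr c j := by
          rw [Category.assoc, wa', ← Category.assoc, w', Category.assoc, pr_tr]
        rw [← S.comp (leOfHom h) (leOfHom h') V V' W _ (bcFst_w _ V) a' wa' a w ha' s,
          S.compat_pullMap (leOfHom h') V' W W' a' wa' b w' (b ≫ a') we' rfl, res_homEquiv,
          S.compat_pullMap (leOfHom h) V V' W' _ (bcFst_w _ V) (b ≫ a') we' e we
            (by rw [Category.assoc, ha', hbe]) s, res_homEquiv, res_homEquiv]
        rfl) }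
  ψ i := Iso.refl _
  compat i j h := by
    change Compat _ ((EtCoh.pullPushAdj (pr c j)).homEquiv _ _ (𝟙 _))
      ((EtCoh.pullPushAdj (pr c i)).homEquiv _ _ (𝟙 _ ≫ S.pullMap c h))
    rw [Adjunction.homEquiv_id, Category.id_comp]
    exact S.compat_pullMap h

/-- the map of diagrams of a morphism of systems -/
noncomputable def SysHom.diagMap {S S' : Sys Xs} (η : SysHom S S') (hU : S.IsUnital) (hU' : S'.IsUnital) :
    (S.diag c hU).G ⟶ (S'.diag c hU').G where
  app i := (EtCoh.pull (pr c i)).map (η.app i)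
  naturality i j h := by
    change S.pullMap c (leOfHom h) ≫ (EtCoh.pull (pr c j)).map (η.app j) =
      (EtCoh.pull (pr c i)).map (η.app i) ≫ S'.pullMap c (leOfHom h)
    apply ((EtCoh.pullPushAdj (pr c i)).homEquiv _ _).injective
    rw [Adjunction.homEquiv_naturality_left, Adjunction.homEquiv_naturality_right, Sys.pullMap, Sys.pullMap,
      Equiv.apply_symm_apply, Equiv.apply_symm_apply, ← Category.assoc (η.app i), η.comm (leOfHom h)]
    have e := pushCmp_natural (tr Xs (leOfHom h)) (pr c j) (pr c i) (pr_tr c (leOfHom h))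
      ((EtCoh.pull (pr c j)).map (η.app j))
    rw [← Iso.eq_comp_inv, Category.assoc] at e
    simp only [Category.assoc]
    rw [e, Iso.inv_hom_id_assoc, ← Functor.map_comp_assoc, ← Functor.map_comp_assoc]
    erw [Adjunction.unit_naturality]

end Groth.Agent.EtLim8
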