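import Groth.Agent.EtLim8.Res
import Mathlib.AlgebraicGeometry.AffineTransitionLimit

/-!
# Systems of sheaves on an inverse system of schemes
-/

set_option autoImplicit false
set_option backward.isDefEq.respectTransparency.types false

universe u

open CategoryTheory CategoryTheory.Limits AlgebraicGeometry Opposite

namespace Groth.Agent.EtLim8

section Compat

variable {X Y Z : Scheme.{u}} {t₁ : Y ⟶ X} {t₂ : Z ⟶ Y} {t₃ : Z ⟶ X}
  {F : EtCoh.Ab X} {G : EtCoh.Ab Y} {K : EtCoh.Ab Z}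

/-- `l₃` is the composite of `l₁` and `l₂` -/
def Compat (l₁ : F ⟶ (EtCoh.push t₁).obj G) (l₂ : G ⟶ (EtCoh.push t₂).obj K) (l₃ : F ⟶ (EtCoh.push t₃).obj K) :
    Prop :=
  ∀ (V : X.Etale) (W : Y.Etale) (W' : Z.Etale) (a : W.left ⟶ V.left) (w : a ≫ V.hom = W.hom ≫ t₁)
    (b : W'.left ⟶ W.left) (w' : b ≫ W.hom = W'.hom ≫ t₂) (e : W'.left ⟶ V.left)
    (we : e ≫ V.hom = W'.hom ≫ t₃), b ≫ a = e → ∀ s : F.obj.obj (op V),
      res t₂ l₂ b w' (res t₁ l₁ a w s) = res t₃ l₃ e we s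

theorem Compat.mk (hw : t₂ ≫ t₁ = t₃) {l₁ : F ⟶ (EtCoh.push t₁).obj G} {l₂ : G ⟶ (EtCoh.push t₂).obj K}
    {l₃ : F ⟶ (EtCoh.push t₃).obj K}
    (h : ∀ (V : X.Etale) (s : F.obj.obj (op V))
      (we : (bcFst t₂ ((EtCoh.bc t₁).obj V) ≫ bcFst t₁ V) ≫ V.hom =
        ((EtCoh.bc t₂).obj ((EtCoh.bc t₁).obj V)).hom ≫ t₃),
      (l₂.hom.app (op ((EtCoh.bc t₁).obj V))).hom ((l₁.hom.app (op V)).hom s) =
        res t₃ l₃ (bcFst t₂ ((EtCoh.bc t₁).obj V) ≫ bcFst t₁ V) we s) : Compat l₁ l₂ l₃ := by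
  intro V W W' a w b w' e we hbe s
  have we' : (bcFst t₂ ((EtCoh.bc t₁).obj V) ≫ bcFst t₁ V) ≫ V.hom =
      ((EtCoh.bc t₂).obj ((EtCoh.bc t₁).obj V)).hom ≫ t₃ := by
    rw [Category.assoc, bcFst_w, ← Category.assoc, bcFst_w, Category.assoc, hw]
  let p := liftBc t₁ a w
  have wp : (b ≫ p.left) ≫ ((EtCoh.bc t₁).obj V).hom = W'.hom ≫ t₂ := by
    refine (Category.assoc _ _ _).trans ?_
    exact (congrArg (b ≫ ·) (MorphismProperty.Over.w p)).trans w'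
  rw [res_eq l₁ a w s, res_map_left l₂ b w' p (b ≫ p.left) rfl wp, res_eq l₂ (b ≫ p.left) wp, h V s we']
  refine res_map_right l₃ _ we' _ e ?_ we s
  rw [← hbe]
  refine (Category.assoc _ _ _).symm.trans ?_
  rw [liftBc_fst]
  exact (Category.assoc _ _ _).trans (congrArg (b ≫ ·) (liftBc_fst t₁ a w))

theorem Compat.unique {l₁ : F ⟶ (EtCoh.push t₁).obj G} {l₂ : G ⟶ (EtCoh.push t₂).obj K}
    {l₃ l₃' : F ⟶ (EtCoh.push t₃).obj K} (hw : t₂ ≫ t₁ = t₃) (h : Compat l₁ l₂ l₃) (h' : Compat l₁ l₂ l₃') :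
    l₃ = l₃' := by
  refine hom_ext_res fun V s => ?_
  let q : ((EtCoh.bc t₃).obj V).left ⟶ ((EtCoh.bc t₁).obj V).left :=
    pullback.lift (bcFst t₃ V) (((EtCoh.bc t₃).obj V).hom ≫ t₂)
      ((bcFst_w t₃ V).trans ((congrArg (_ ≫ ·) hw.symm).trans (Category.assoc _ _ _).symm))
  have wq : q ≫ ((EtCoh.bc t₁).obj V).hom = ((EtCoh.bc t₃).obj V).hom ≫ t₂ := pullback.lift_snd _ _ _
  have e : q ≫ bcFst t₁ V = bcFst t₃ V := pullback.lift_fst _ _ _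
  exact (h V _ _ _ (bcFst_w t₁ V) q wq _ (bcFst_w t₃ V) e s).symm.trans
    (h' V _ _ _ (bcFst_w t₁ V) q wq _ (bcFst_w t₃ V) e s)

end Compat

variable {ι : Type u} [Preorder ι] (Xs : ιᵒᵖ ⥤ Scheme.{u})

/-- a transition morphism -/
noncomputable abbrev tr {i j : ι} (h : i ≤ j) : Xs.obj (op j) ⟶ Xs.obj (op i) := Xs.map (homOfLE h).op

theorem tr_comp {i j k : ι} (hij : i ≤ j) (hjk : j ≤ k) : tr Xs hjk ≫ tr Xs hij = tr Xs (hij.trans hjk) := by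
  rw [tr, tr, ← Functor.map_comp]
  rfl

theorem tr_refl (i : ι) : tr Xs (le_refl i) = 𝟙 _ :=
  (congrArg Xs.map (Subsingleton.elim _ _)).trans (Xs.map_id _)

/-- a projection of a cone -/
noncomputable abbrev pr {Xs : ιᵒᵖ ⥤ Scheme.{u}} (c : Cone Xs) (i : ι) : c.pt ⟶ Xs.obj (op i) := c.π.app (op i)

theorem pr_tr {Xs : ιᵒᵖ ⥤ Scheme.{u}} (c : Cone Xs) {i j : ι} (h : i ≤ j) : pr c j ≫ tr Xs h = pr c i :=
  c.w (homOfLE h).op

/-- systems of abelian sheaves -/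
structure Sys where
  F : ∀ i, EtCoh.Ab (Xs.obj (op i))
  l : ∀ ⦃i j : ι⦄ (h : i ≤ j), F i ⟶ (EtCoh.push (tr Xs h)).obj (F j)
  comp : ∀ ⦃i j k : ι⦄ (hij : i ≤ j) (hjk : j ≤ k), Compat (l hij) (l hjk) (l (hij.trans hjk))

variable {Xs}

/-- the identity transition maps are identities -/
def Sys.IsUnital (S : Sys Xs) : Prop :=
  ∀ (i : ι) (V W : (Xs.obj (op i)).Etale) (g : W ⟶ V) (w : g.left ≫ V.hom = W.hom ≫ tr Xs (le_refl i))
    (s : (S.F i).obj.obj (op V)), res _ (S.l (le_refl i)) g.left w s = (S.F i).obj.map g.op s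

/-- a compatible family of maps to a sheaf on the limit -/
structure Target (S : Sys Xs) (c : Cone Xs) where
  G : EtCoh.Ab c.pt
  g : ∀ i, S.F i ⟶ (EtCoh.push (pr c i)).obj G
  comp : ∀ ⦃i j : ι⦄ (h : i ≤ j), Compat (S.l h) (g j) (g i)

/-- stalkwise, the target is the colimit of the system -/
structure Target.IsColim {S : Sys Xs} {c : Cone Xs} (T : Target S c) : Prop where
  surj : ∀ (W : c.pt.Etale) (σ : T.G.obj.obj (op W)) (x : W.left), ∃ (W' : c.pt.Etale) (q : W' ⟶ W)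
    (y : W'.left), q.left.base y = x ∧ ∃ (j : ι) (V : (Xs.obj (op j)).Etale) (a : W'.left ⟶ V.left)
    (w : a ≫ V.hom = W'.hom ≫ pr c j) (s : (S.F j).obj.obj (op V)),
      res _ (T.g j) a w s = T.G.obj.map q.op σ
  inj : ∀ (j : ι) (V : (Xs.obj (op j)).Etale) (W : c.pt.Etale) (a : W.left ⟶ V.left)
    (w : a ≫ V.hom = W.hom ≫ pr c j) (s : (S.F j).obj.obj (op V)), res _ (T.g j) a w s = 0 → ∀ x : W.left,
      ∃ (k : ι) (h : j ≤ k) (W₁ : (Xs.obj (op k)).Etale) (b : W.left ⟶ W₁.left)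
        (_ : b ≫ W₁.hom = W.hom ≫ pr c k) (e : W₁.left ⟶ V.left) (we : e ≫ V.hom = W₁.hom ≫ tr Xs h),
        b ≫ e = a ∧ b.base x ∈ nullLocus (S.F k) W₁ (res _ (S.l h) e we s)

end Groth.Agent.EtLim8
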